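import Cfsg.Prelude.Def_Classical
import Mathlib

/-!
A subgroup of an orthogonal group containing the elementary transformations of a hyperbolic frame,
the scalings and the flips is the whole group.
-/

set_option autoImplicit false

namespace CfsgLib.Chevalley.Natural

open Matrix QuadraticMap

variable {F : Type*} [Field F] {ι : Type} [Fintype ι] [DecidableEq ι] {Qf : (ι → F) → F}

/-- The action on column vectors. -/
def act (g : ↥(Cfsg.isometryGroup F Qf)) (v : ι → F) : ι → F :=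
  ((g : GL ι F) : Matrix ι ι F) *ᵥ v

theorem act_mul (g h : ↥(Cfsg.isometryGroup F Qf)) (v : ι → F) : act (g * h) v = act g (act h v) := by
  simp [act, Matrix.mulVec_mulVec]

theorem act_one (v : ι → F) : act (1 : ↥(Cfsg.isometryGroup F Qf)) v = v := by simp [act]

theorem act_quad (g : ↥(Cfsg.isometryGroup F Qf)) (v : ι → F) : Qf (act g v) = Qf v := g.2 v v

theorem act_ext {g h : ↥(Cfsg.isometryGroup F Qf)} (e : ∀ c, act g (Pi.single c 1) = act h (Pi.single c 1)) :
    g = h := by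
  refine Subtype.ext (Units.ext ?_)
  ext i j
  have := congrFun (e j) i
  simpa [act, Matrix.mulVec_single] using this

theorem act_ne_zero (g : ↥(Cfsg.isometryGroup F Qf)) {v : ι → F} (hv : v ≠ 0) : act g v ≠ 0 := fun e => hv (by
  have : act g⁻¹ (act g v) = act g⁻¹ 0 := by rw [e]
  rwa [← act_mul, inv_mul_cancel, act_one, show act g⁻¹ (0 : ι → F) = 0 from Matrix.mulVec_zero _] at this)

theorem act_smul (g : ↥(Cfsg.isometryGroup F Qf)) (c : F) (v : ι → F) : act g (c • v) = c • act g v :=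
  Matrix.mulVec_smul _ _ _

/-- A hyperbolic frame: coordinates paired by `bar`, at most one of them fixed. -/
structure Frame (Q : QuadraticForm F (ι → F)) (bar : ι → ι) : Prop where
  bar_bar : ∀ a, bar (bar a) = a
  sing : ∀ a, bar a ≠ a → Q (Pi.single a 1) = 0
  pol : ∀ a, bar a ≠ a → ∀ v, polar Q (Pi.single a 1) v = v (bar a)
  uniq : ∀ o o', bar o = o → bar o' = o' → o = o'
  unit : ∀ o, bar o = o → Q (Pi.single o 1) = 1

variable {Q : QuadraticForm F (ι → F)} {bar : ι → ι} (hQf : ∀ v, Qf v = Q v) (hfr : Frame Q bar)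

theorem act_polar (hQf : ∀ v, Qf v = Q v) (g : ↥(Cfsg.isometryGroup F Qf)) (v w : ι → F) :
    polar Q (act g v) (act g w) = polar Q v w := by
  have h : ∀ x, Q (act g x) = Q x := fun x => (hQf _).symm.trans ((act_quad g x).trans (hQf x))
  simp only [polar]
  rw [show act g v + act g w = act g (v + w) from (Matrix.mulVec_add _ _ _).symm, h, h, h]

include hfr

theorem Frame.bar_ne {a : ι} (h : bar a ≠ a) : bar (bar a) ≠ bar a := by
  rw [hfr.bar_bar]; exact Ne.symm h

theorem Frame.quad_pair {a : ι} (ha : bar a ≠ a) {v : ι → F} (hv : ∀ c, c ≠ a → c ≠ bar a → v c = 0) :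
    Q v = v a * v (bar a) := by
  have e : v = v a • Pi.single a 1 + v (bar a) • Pi.single (bar a) 1 := by
    funext c
    rcases eq_or_ne c a with rfl | h1
    · simp [Ne.symm ha]
    rcases eq_or_ne c (bar a) with rfl | h2
    · simp [ha]
    simp [hv c h1 h2, h1, h2]
  conv_lhs => rw [e]
  rw [QuadraticMap.map_add (⇑Q), QuadraticMap.map_smul, QuadraticMap.map_smul, polar_smul_left, polar_smul_right,
    hfr.sing a ha, hfr.sing _ (hfr.bar_ne ha), hfr.pol a ha]
  simp

theorem Frame.quad_tail {o a : ι} (ho : bar o = o) (ha : bar a ≠ a) {v : ι → F}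
    (hv : ∀ c, c ≠ o → c ≠ a → v c = 0) : Q v = v o ^ 2 := by
  have hoa : o ≠ a := fun e => ha (e ▸ ho)
  have hob : o ≠ bar a := fun e => by
    rw [e, hfr.bar_bar] at ho
    exact ha ho.symm
  have e : v = v o • Pi.single o 1 + v a • Pi.single a 1 := by
    funext c
    rcases eq_or_ne c o with rfl | h1
    · simp [hoa]
    rcases eq_or_ne c a with rfl | h2
    · simp [Ne.symm hoa]
    simp [hv c h1 h2, h1, h2]
  conv_lhs => rw [e]
  rw [QuadraticMap.map_add (⇑Q), QuadraticMap.map_smul, QuadraticMap.map_smul, polar_comm, polar_smul_left,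
    polar_smul_right, hfr.unit o ho, hfr.sing a ha, hfr.pol a ha]
  simp [Ne.symm hob]
  ring

/-- The hypotheses on the subgroup. -/
structure FrameGens (bar : ι → ι) (S : Subgroup ↥(Cfsg.isometryGroup F Qf)) : Prop where
  el : ∀ a b, bar a ≠ a → bar b ≠ b → a ≠ b → a ≠ bar b → ∀ t : F, ∃ g ∈ S, ∀ v,
    act g v = v + (t * v b) • Pi.single a 1 - (t * v (bar a)) • Pi.single (bar b) 1
  sh : ∀ o a, bar o = o → bar a ≠ a → ∀ t : F, ∃ g ∈ S, ∀ v,
    act g v = v + (-2 * t * v o - t ^ 2 * v (bar a)) • Pi.single a 1 + (t * v (bar a)) • Pi.single o 1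
  flip : ∀ a, bar a ≠ a → ∃ g ∈ S,
    (∀ d, d ≠ a → d ≠ bar a → bar d ≠ d → act g (Pi.single d 1) = Pi.single d 1) ∧
      act g (Pi.single (bar a) 1) a ≠ 0
  scale : ∀ a, bar a ≠ a → ∀ c : F, c ≠ 0 → ∃ g ∈ S,
    (∀ d, d ≠ a → d ≠ bar a → act g (Pi.single d 1) = Pi.single d 1) ∧
      act g (Pi.single a 1) = c • Pi.single a 1
  refl : ∀ o, bar o = o → ∃ g ∈ S,
    (∀ d, d ≠ o → act g (Pi.single d 1) = Pi.single d 1) ∧ act g (Pi.single o 1) = -Pi.single o 1

variable {S : Subgroup ↥(Cfsg.isometryGroup F Qf)} (hS : FrameGens bar S)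
include hS

omit hfr in
theorem exists_zero_coord (hfr : Frame Q bar) {J : Finset ι} (hJ : ∀ c ∈ J, bar c ∈ J) {a : ι} (ha : bar a ≠ a)
    (haJ : a ∈ J) {v : ι → F} (hva : v a ≠ 0) (T : Finset ι) (hT : T ⊆ J) (hTa : a ∉ T) (hTb : bar a ∉ T) :
    ∃ g ∈ S, (∀ d ∉ J, act g (Pi.single d 1) = Pi.single d 1) ∧
      act g (Pi.single (bar a) 1) = Pi.single (bar a) 1 ∧
      (∀ c ∈ T, act g v c = 0) ∧ act g v a = v a := by
  induction T using Finset.induction_on with
  | empty => exact ⟨1, one_mem _, fun d _ => act_one _, act_one _, by simp, by rw [act_one]⟩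
  | insert c T hc ih =>
    rw [Finset.insert_subset_iff] at hT
    rw [Finset.mem_insert, not_or] at hTa hTb
    obtain ⟨g, hgS, hg1, hg2, hg3, hg4⟩ := ih hT.2 hTa.2 hTb.2
    set w := act g v with hw
    have hwa : w a ≠ 0 := by rw [hg4]; exact hva
    by_cases hcf : bar c = c
    · obtain ⟨s, hsS, hs⟩ := hS.sh c (bar a) hcf (hfr.bar_ne ha) (-(w c) / w a)
      rw [hfr.bar_bar] at hs
      refine ⟨s * g, mul_mem hsS hgS, fun d hd => ?_, ?_, fun x hx => ?_, ?_⟩
      · rw [act_mul, hg1 d hd, hs]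
        simp [show c ≠ d from fun e => hd (e ▸ hT.1), show a ≠ d from fun e => hd (e ▸ haJ)]
      · rw [act_mul, hg2, hs]
        simp [Ne.symm ha, Ne.symm hTb.1, Ne.symm ha]
      · rw [act_mul, ← hw, hs]
        rcases Finset.mem_insert.mp hx with rfl | hx
        · simp [Ne.symm hTb.1]
          field_simp
          ring
        · simp [hg3 x hx, show bar a ≠ x from fun e => hTb.2 (e ▸ hx), show c ≠ x from fun e => hc (e ▸ hx),
            show x ≠ bar a from fun e => hTb.2 (e ▸ hx), show x ≠ c from fun e => hc (e ▸ hx)]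
      · rw [act_mul, ← hw, hs, ← hg4]
        simp [Ne.symm ha, hTa.1]
    · obtain ⟨s, hsS, hs⟩ := hS.el c a hcf ha (Ne.symm hTa.1) (Ne.symm hTb.1) (-(w c) / w a)
      refine ⟨s * g, mul_mem hsS hgS, fun d hd => ?_, ?_, fun x hx => ?_, ?_⟩
      · rw [act_mul, hg1 d hd, hs]
        simp [show a ≠ d from fun e => hd (e ▸ haJ), show bar c ≠ d from fun e => hd (e ▸ hJ c hT.1)]
      · rw [act_mul, hg2, hs]
        have : bar c ≠ bar a := fun e => hTa.1 (by rw [← hfr.bar_bar a, ← e, hfr.bar_bar])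
        simp [Ne.symm ha, this]
      · rw [act_mul, ← hw, hs]
        rcases Finset.mem_insert.mp hx with rfl | hx
        · simp [Ne.symm hTb.1]
          field_simp
          ring
        · simp [hg3 x hx, show c ≠ x from fun e => hc (e ▸ hx), show x ≠ c from fun e => hc (e ▸ hx),
            show bar a ≠ x from fun e => hTb.2 (e ▸ hx), show x ≠ bar a from fun e => hTb.2 (e ▸ hx)]
      · rw [act_mul, ← hw, hs, ← hg4]
        simp [hTa.1, Ne.symm ha]

theorem exists_pivot (hQf : ∀ v, Qf v = Q v) {J : Finset ι} (hJ : ∀ c ∈ J, bar c ∈ J)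
    (hJfix : ∀ o, bar o = o → o ∈ J) {a : ι} (ha : bar a ≠ a) (haJ : a ∈ J) {v : ι → F} (hv : v ≠ 0)
    (hvJ : ∀ c ∉ J, v c = 0) (hv0 : Qf v = 0) :
    ∃ g ∈ S, (∀ d ∉ J, act g (Pi.single d 1) = Pi.single d 1) ∧ act g v a ≠ 0 := by
  by_cases hva : v a ≠ 0
  · exact ⟨1, one_mem _, fun d _ => act_one _, by rwa [act_one]⟩
  push Not at hva
  by_cases hex : ∃ c, bar c ≠ c ∧ c ≠ bar a ∧ v c ≠ 0
  · obtain ⟨c, hcf, hcb, hvc⟩ := hex
    have hcJ : c ∈ J := by by_contra h; exact hvc (hvJ c h)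
    have hca : c ≠ a := fun e => hvc (e ▸ hva)
    have hac : a ≠ bar c := fun e => hcb (by rw [e, hfr.bar_bar])
    obtain ⟨s, hsS, hs⟩ := hS.el a c ha hcf hca.symm hac 1
    refine ⟨s, hsS, fun d hd => ?_, ?_⟩
    · rw [hs]
      simp [show c ≠ d from fun e => hd (e ▸ hcJ), show bar a ≠ d from fun e => hd (e ▸ hJ a haJ)]
    · rw [hs]
      simp [hva, hac, hvc]
  push Not at hex
  have hbar : ∀ c, c ≠ bar a → v c = 0 := by
    intro c hc
    by_cases hcf : bar c = c
    · have hsupp : ∀ x, x ≠ c → x ≠ bar a → v x = 0 := by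
        intro x hxc hxa
        by_cases hxf : bar x = x
        · exact absurd (hfr.uniq x c hxf hcf) hxc
        · exact hex x hxf hxa
      have := hfr.quad_tail hcf (hfr.bar_ne ha) hsupp
      rw [← hQf, hv0] at this
      exact eq_zero_of_pow_eq_zero this.symm
    · exact hex c hcf hc
  have hvb : v (bar a) ≠ 0 := fun e => hv (funext fun c => by
    rcases eq_or_ne c (bar a) with rfl | h
    exacts [e, hbar c h])
  obtain ⟨s, hsS, hs1, hs2⟩ := hS.flip a ha
  refine ⟨s, hsS, fun d hd => hs1 d (fun e => hd (e ▸ haJ)) (fun e => hd (e ▸ hJ a haJ))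
    (fun e => hd (hJfix d e)), ?_⟩
  have e : v = v (bar a) • Pi.single (bar a) 1 := by
    funext c
    rcases eq_or_ne c (bar a) with rfl | h
    · simp
    · simp [hbar c h, h]
  rw [e, act_smul, Pi.smul_apply, smul_eq_mul]
  exact mul_ne_zero hvb hs2

omit hS in
theorem supp_of_fix (hQf : ∀ v, Qf v = Q v) {J : Finset ι} (hJ : ∀ c ∈ J, bar c ∈ J)
    (hJfix : ∀ o, bar o = o → o ∈ J) {g : ↥(Cfsg.isometryGroup F Qf)}
    (hg : ∀ d ∉ J, act g (Pi.single d 1) = Pi.single d 1) {w : ι → F} (hw : ∀ c ∉ J, w c = 0) :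
    ∀ c ∉ J, act g w c = 0 := by
  intro c hc
  have hcf : bar c ≠ c := fun e => hc (hJfix c e)
  have hbJ : bar c ∉ J := fun h => hc (hfr.bar_bar c ▸ hJ _ h)
  have h1 := hfr.pol (bar c) (hfr.bar_ne hcf) (act g w)
  rw [hfr.bar_bar] at h1
  rw [← h1, ← hg _ hbJ, act_polar hQf, hfr.pol _ (hfr.bar_ne hcf), hfr.bar_bar]
  exact hw c hc

theorem mem_of_fix (hQf : ∀ v, Qf v = Q v) :
    ∀ (k : ℕ) (J : Finset ι), J.card = k → (∀ c ∈ J, bar c ∈ J) → (∀ o, bar o = o → o ∈ J) →
      ∀ g : ↥(Cfsg.isometryGroup F Qf), (∀ d ∉ J, act g (Pi.single d 1) = Pi.single d 1) → g ∈ S := by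
  intro k
  induction k using Nat.strong_induction_on with
  | _ k ih =>
  intro J hk hJ hJfix g hg
  by_cases hex : ∃ a ∈ J, bar a ≠ a
  swap
  · push Not at hex
    by_cases hne : J.Nonempty
    · obtain ⟨o, hoJ⟩ := hne
      have ho := hex o hoJ
      have hJo : ∀ x ∈ J, x = o := fun x hx => hfr.uniq x o (hex x hx) ho
      have hsupp := supp_of_fix hfr hQf hJ hJfix hg (w := Pi.single o 1)
        (fun c hc => by simp [show c ≠ o from fun e => hc (e ▸ hoJ)])
      set w := act g (Pi.single o 1) with hw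
      have e : w = w o • Pi.single o 1 := by
        funext c
        rcases eq_or_ne c o with rfl | h
        · simp
        · simp [h, hsupp c (fun hc => h (hJo c hc))]
      have hsq : w o * w o = 1 := by
        have h1 : Q w = 1 := (hQf _).symm.trans ((act_quad g _).trans ((hQf _).trans (hfr.unit o ho)))
        rw [e, QuadraticMap.map_smul, hfr.unit o ho] at h1
        simpa using h1
      rcases mul_self_eq_one_iff.mp hsq with h | h
      · have : g = 1 := act_ext fun c => by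
          rw [act_one]
          rcases eq_or_ne c o with rfl | hc
          · rw [← hw, e, h, one_smul]
          · exact hg c fun hcJ => hc (hJo c hcJ)
        rw [this]; exact one_mem _
      · obtain ⟨s, hsS, hs1, hs2⟩ := hS.refl o ho
        have : g = s := act_ext fun c => by
          rcases eq_or_ne c o with rfl | hc
          · rw [← hw, e, h, hs2]; simp
          · rw [hs1 c hc]; exact hg c fun hcJ => hc (hJo c hcJ)
        rw [this]; exact hsS
    · have : g = 1 := act_ext fun c => by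
        rw [act_one]; exact hg c fun hc => hne ⟨c, hc⟩
      rw [this]; exact one_mem _
  obtain ⟨a, haJ, ha⟩ := hex
  have hbJ : bar a ∈ J := hJ a haJ
  have hsing : ∀ (x : ↥(Cfsg.isometryGroup F Qf)) (c : ι), bar c ≠ c → Qf (act x (Pi.single c 1)) = 0 := by
    intro x c hc
    exact (act_quad x _).trans ((hQf _).trans (hfr.sing c hc))
  have hone : ∀ c ∈ J, ∀ d ∉ J, (Pi.single c 1 : ι → F) d = 0 := fun c hc d hd => by
    simp [show d ≠ c from fun e => hd (e ▸ hc)]
  have hfixmul : ∀ {x y : ↥(Cfsg.isometryGroup F Qf)}, (∀ d ∉ J, act x (Pi.single d 1) = Pi.single d 1) →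
      (∀ d ∉ J, act y (Pi.single d 1) = Pi.single d 1) → ∀ d ∉ J, act (x * y) (Pi.single d 1) = Pi.single d 1 :=
    fun hx hy d hd => by rw [act_mul, hy d hd, hx d hd]
  have hpair : ∀ {b : ι}, bar b ≠ b → b ∈ J → ∀ {x : ↥(Cfsg.isometryGroup F Qf)},
      (∀ d ∉ J, act x (Pi.single d 1) = Pi.single d 1) → ∀ {i : ι}, bar i ≠ i → i ∈ J →
      act x (Pi.single i 1) b ≠ 0 → ∃ y ∈ S, (∀ d ∉ J, act y (Pi.single d 1) = Pi.single d 1) ∧
        act y (Pi.single (bar b) 1) = Pi.single (bar b) 1 ∧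
        act (y * x) (Pi.single i 1) = act x (Pi.single i 1) b • Pi.single b 1 := by
    intro b hb hbJ' x hx i hi hiJ hne
    obtain ⟨y, hyS, hy1, hy2, hy3, hy4⟩ := exists_zero_coord hS hfr hJ hb hbJ' hne
      ((J.erase b).erase (bar b)) ((Finset.erase_subset _ _).trans (Finset.erase_subset _ _)) (by simp) (by simp)
    refine ⟨y, hyS, hy1, hy2, ?_⟩
    set w := act (y * x) (Pi.single i 1) with hw
    have hsupp : ∀ c ∉ J, w c = 0 := supp_of_fix hfr hQf hJ hJfix (hfixmul hy1 hx) (hone i hiJ)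
    have hz : ∀ c, c ≠ b → c ≠ bar b → w c = 0 := fun c h1 h2 => by
      by_cases hcJ : c ∈ J
      · rw [hw, act_mul]
        exact hy3 c (by simp [h1, h2, hcJ])
      · exact hsupp c hcJ
    have hwb : w b = act x (Pi.single i 1) b := by rw [hw, act_mul, hy4]
    have h0 : w (bar b) = 0 := by
      have h1 := hfr.quad_pair hb hz
      rw [← hQf, hsing _ i hi, hwb] at h1
      exact (mul_eq_zero.mp h1.symm).resolve_left hne
    funext c
    rcases eq_or_ne c b with rfl | h1
    · simp [hwb]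
    rcases eq_or_ne c (bar b) with rfl | h2
    · simp [h0, h1]
    · simp [hz c h1 h2, h1]
  -- the first vector
  obtain ⟨g1, g1S, g1fix, g1a⟩ := exists_pivot hfr hS hQf hJ hJfix ha haJ
    (act_ne_zero g (v := Pi.single a 1) (by simp))
    (supp_of_fix hfr hQf hJ hJfix hg (hone a haJ)) (hsing g a ha)
  rw [← act_mul] at g1a
  obtain ⟨g2, g2S, g2fix, -, g2a⟩ := hpair ha haJ (hfixmul g1fix hg) ha haJ g1a
  set c := act (g1 * g) (Pi.single a 1) a
  obtain ⟨g3, g3S, g3fix, g3a⟩ := hS.scale a ha c⁻¹ (inv_ne_zero g1a)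
  have g3fix' : ∀ d ∉ J, act g3 (Pi.single d 1) = Pi.single d 1 := fun d hd =>
    g3fix d (fun e => hd (e ▸ haJ)) (fun e => hd (e ▸ hbJ))
  set h := g3 * (g2 * (g1 * g)) with hh
  have hhfix := hfixmul g3fix' (hfixmul g2fix (hfixmul g1fix hg))
  have hha : act h (Pi.single a 1) = Pi.single a 1 := by
    rw [hh, act_mul, g2a, act_smul, g3a, smul_smul, mul_inv_cancel₀ g1a, one_smul]
  -- the second vector
  have hub : act h (Pi.single (bar a) 1) (bar a) = 1 := by
    rw [← hfr.pol a ha (act h (Pi.single (bar a) 1))]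
    nth_rw 1 [← hha]
    rw [act_polar hQf, hfr.pol a ha]
    simp
  obtain ⟨g4, g4S, g4fix, g4a, g4b⟩ := hpair (hfr.bar_ne ha) hbJ hhfix (hfr.bar_ne ha) hbJ
    (by rw [hub]; exact one_ne_zero)
  rw [hub, one_smul] at g4b
  rw [hfr.bar_bar] at g4a
  have hgS : g4 * h ∈ S := by
    refine ih ((J.erase a).erase (bar a)).card ?_ _ rfl ?_ ?_ _ fun d hd => ?_
    · rw [← hk]
      exact lt_of_le_of_lt Finset.card_erase_le (Finset.card_erase_lt_of_mem haJ)
    · intro c hc
      simp only [Finset.mem_erase] at hc ⊢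
      exact ⟨fun e => hc.2.1 (by rw [← hfr.bar_bar c, e, hfr.bar_bar]),
        fun e => hc.1 (by rw [← e, hfr.bar_bar]), hJ c hc.2.2⟩
    · intro o ho
      simp only [Finset.mem_erase]
      refine ⟨fun e => ?_, fun e => ha (e ▸ ho), hJfix o ho⟩
      rw [e, hfr.bar_bar] at ho
      exact ha ho.symm
    · simp only [Finset.mem_erase, not_and_or, not_not] at hd
      rcases hd with rfl | rfl | hd
      · exact g4b
      · rw [act_mul, hha, g4a]
      · exact hfixmul g4fix hhfix d hd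
  have e : g = g1⁻¹ * (g2⁻¹ * (g3⁻¹ * (g4⁻¹ * (g4 * h)))) := by rw [hh]; group
  rw [e]
  exact mul_mem (inv_mem g1S) (mul_mem (inv_mem g2S) (mul_mem (inv_mem g3S) (mul_mem (inv_mem g4S) hgS)))

theorem eq_top (hQf : ∀ v, Qf v = Q v) : S = ⊤ := top_le_iff.mp fun g _ =>
  mem_of_fix hfr hS hQf _ Finset.univ rfl (fun _ _ => Finset.mem_univ _) (fun _ _ => Finset.mem_univ _) g
    fun d hd => absurd (Finset.mem_univ d) hd

end CfsgLib.Chevalley.Natural
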