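import Cfsg.Agent.Lib.Chevalley.Natural.NatRep
import Cfsg.Agent.Lib.Chevalley.TablesSt

/-!
The natural representations of D₄ and B₂: the relations checked.
-/

set_option autoImplicit false
set_option maxRecDepth 20000

namespace CfsgLib.Chevalley.Natural

/-- The natural representation of type D4. -/
def natD4 : RepData where
  n := 8
  dat r := [
    [(1, 4, 1, -1), (1, 5, 0, 1)],
    [(1, 4, 2, -1), (1, 6, 0, 1)],
    [(1, 3, 0, 1), (1, 4, 7, -1)],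
    [(1, 4, 3, -1), (1, 7, 0, 1)],
    [(1, 2, 0, -1), (1, 4, 6, 1)],
    [(1, 1, 0, 1), (1, 4, 5, -1)],
    [(1, 5, 2, 1), (1, 6, 1, -1)],
    [(1, 3, 1, -1), (1, 5, 7, 1)],
    [(1, 5, 3, 1), (1, 7, 1, -1)],
    [(1, 2, 1, 1), (1, 5, 6, -1)],
    [(1, 3, 2, 1), (1, 6, 7, -1)],
    [(1, 6, 3, -1), (1, 7, 2, 1)],
    [(1, 2, 7, 1), (1, 3, 6, -1)],
    [(1, 2, 3, 1), (1, 7, 6, -1)],
    [(1, 1, 2, 1), (1, 6, 5, -1)],
    [(1, 1, 7, -1), (1, 3, 5, 1)],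
    [(1, 1, 3, -1), (1, 7, 5, 1)],
    [(1, 1, 6, -1), (1, 2, 5, 1)],
    [(1, 0, 1, 1), (1, 5, 4, -1)],
    [(1, 0, 2, -1), (1, 6, 4, 1)],
    [(1, 0, 7, 1), (1, 3, 4, -1)],
    [(1, 0, 3, 1), (1, 7, 4, -1)],
    [(1, 0, 6, 1), (1, 2, 4, -1)],
    [(1, 0, 5, 1), (1, 1, 4, -1)]].getD r []

/-- The natural representation of type B2. -/
def natB2 : RepData where
  n := 5
  dat r := [
    [(1, 3, 2, -1), (1, 4, 1, 1)],
    [(1, 0, 1, -1), (1, 3, 0, 2), (2, 3, 1, -1)],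
    [(1, 0, 2, -1), (1, 4, 0, 2), (2, 4, 2, -1)],
    [(1, 2, 1, 1), (1, 3, 4, -1)],
    [(1, 1, 2, 1), (1, 4, 3, -1)],
    [(1, 0, 4, 1), (1, 2, 0, -2), (2, 2, 4, -1)],
    [(1, 0, 3, 1), (1, 1, 0, -2), (2, 1, 3, -1)],
    [(1, 1, 4, 1), (1, 2, 3, -1)]].getD r []

theorem natD4_ok : RepOk natD4 Data.D4.tbl where
  deg := by decide +kernel
  add := by decide +kernel
  comm := by decide +kernel
  tor := by decide +kernel

theorem natB2_ok : RepOk natB2 Data.B2.tbl where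
  deg := by decide +kernel
  add := by decide +kernel
  comm := by decide +kernel
  tor := by decide +kernel

end CfsgLib.Chevalley.Natural
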