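import Cfsg.Agent.Lib.Chevalley.Natural.NatIso

/-!
The root isometries are commutators.
-/

set_option autoImplicit false

namespace CfsgLib.Chevalley.Natural

open Matrix QuadraticMap
open scoped commutatorElement

variable {D : RepData} {T : Tbl} {barN : ℕ → ℕ} (h : NatOk D T barN) {F : Type*} [Field F]
  {ι : Type} [Fintype ι] [DecidableEq ι] (e : Fin D.n ≃ ι) {Qf : (ι → F) → F}
  {Q : QuadraticForm F (ι → F)} {bar : ι → ι} (hQf : ∀ v, Qf v = Q v) (hfr : Frame Q bar)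
  (hpol0 : ∀ o, bar o = o → ∀ v, polar Q (Pi.single o 1) v = 2 * v o)
  (hbar : ∀ a : Fin D.n, (e.symm (bar (e a))).val = barN a.val)
include hbar

theorem ev_elP_one (a b : Fin D.n) (t : F) (v : ι → F) :
    ev e t 0 (elP D.n barN a.val b.val 1 0 0) *ᵥ v = elF bar (e a) (e b) 1 v := by
  rw [← ev_elP e hbar a b (1 : F) v]
  simp [elP, ev_append, ev_pid, ev_cons, ev_nil, evT]

include h hQf hfr hpol0

theorem commutator_of_gens
    (hel : ∀ a b, bar a ≠ a → bar b ≠ b → a ≠ b → a ≠ bar b → ∀ t : F,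
      ∀ g : ↥(Cfsg.isometryGroup F Qf), (∀ v, act g v = elF bar a b t v) → g ∈ commutator _)
    (hsh : ∀ o a, bar o = o → bar a ≠ a → ∀ t : F,
      ∀ g : ↥(Cfsg.isometryGroup F Qf), (∀ v, act g v = shF bar o a t v) → g ∈ commutator _) :
    (natHom h e hQf hfr hpol0 hbar).range ≤ commutator ↥(Cfsg.isometryGroup F Qf) := by
  rw [MonoidHom.range_eq_map, ← PresentedGroup.closure_range_of (T.datum.steinbergRels F),
    MonoidHom.map_closure, Subgroup.closure_le]
  rintro _ ⟨_, ⟨⟨r, t⟩, rfl⟩, rfl⟩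
  rw [show PresentedGroup.of (r, t) = T.sX F r.val t by
    rw [Tbl.sX, Cfsg.Lie.ChevalleyDatum.stGen, Cfsg.Lie.ChevalleyDatum.stX, dif_pos r.2]; rfl]
  obtain ⟨σ, -, ⟨a, b, h1, h2, h3, h4, he⟩ | ⟨o, a, h1, h2, he⟩⟩ := root_cases h e hbar (r := r.val) r.2 (F := F)
  · exact hel a b h1 h2 h3 h4 _ _ fun v => (natHom_sX h e hQf hfr hpol0 hbar r.2 t v).trans (he t v)
  · exact hsh o a h1 h2 _ _ fun v => (natHom_sX h e hQf hfr hpol0 hbar r.2 t v).trans (he t v)

theorem el_commutator_tri (htri : chkTri D barN = true) {a b : ι} (ha : bar a ≠ a) (hb : bar b ≠ b)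
    (hab : a ≠ b) (hab' : a ≠ bar b) (t : F) (g : ↥(Cfsg.isometryGroup F Qf))
    (hg : ∀ v, act g v = elF bar a b t v) : g ∈ commutator ↥(Cfsg.isometryGroup F Qf) := by
  obtain ⟨a, rfl⟩ := e.surjective a
  obtain ⟨b, rfl⟩ := e.surjective b
  have hok := (elOk_iff e hbar a b).mpr ⟨ha, hb, hab, hab'⟩
  have hc := allLt_iff.mp (allLt_iff.mp htri a.val a.2) b.val b.2
  simp only [hok, Bool.not_true, Bool.false_or, List.any_eq_true, List.mem_range, Bool.and_eq_true] at hc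
  obtain ⟨c, hc, ⟨hac, hcb⟩, hP⟩ := hc
  obtain ⟨h1, h2, h3, h4⟩ := (elOk_iff e hbar a ⟨c, hc⟩).mp hac
  obtain ⟨k1, k2, k3, k4⟩ := (elOk_iff e hbar ⟨c, hc⟩ b).mp hcb
  obtain ⟨g1, -, e1⟩ := natHom_el h e hQf hfr hpol0 hbar h1 h2 h3 h4 t
  obtain ⟨g2, -, e2⟩ := natHom_el h e hQf hfr hpol0 hbar k1 k2 k3 k4 1
  have hrel : g1 * g2 = g * (g2 * g1) := act_inj fun v => by
    have h5 := congrArg (· *ᵥ v) (pEq_ev e (R := F) hP t 0)
    simp only [ev_pprod, List.map_cons, List.map_nil, List.prod_cons, List.prod_nil, mul_one,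
      ← Matrix.mulVec_mulVec] at h5
    rw [ev_elP e hbar a b, ev_elP e hbar a ⟨c, hc⟩, ev_elP e hbar a ⟨c, hc⟩, ev_elP_one e hbar ⟨c, hc⟩ b,
      ev_elP_one e hbar ⟨c, hc⟩ b] at h5
    simp only [act_mul, e1, e2, hg]
    exact h5
  have : g = ⁅g1, g2⁆ := by
    rw [commutatorElement_def, hrel]
    group
  rw [this]
  exact Subgroup.commutator_mem_commutator (Subgroup.mem_top _) (Subgroup.mem_top _)

theorem el_commutator_diag {c : F} (hc0 : c ≠ 0) (hc1 : c ≠ 1) {a b : ι} (ha : bar a ≠ a) (hb : bar b ≠ b)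
    (hab : a ≠ b) (hab' : a ≠ bar b) (t : F) (g : ↥(Cfsg.isometryGroup F Qf))
    (hg : ∀ v, act g v = elF bar a b t v) : g ∈ commutator ↥(Cfsg.isometryGroup F Qf) := by
  have hc : c - 1 ≠ 0 := sub_ne_zero.mpr hc1
  obtain ⟨d, hd⟩ := exists_diag hQf hfr hpol0 ha hc0
  obtain ⟨g1, -, e1⟩ := natHom_el h e hQf hfr hpol0 hbar ha hb hab hab' (t / (c - 1))
  have hb1 : b ≠ bar a := fun e' => hab' (by rw [e', hfr.bar_bar])
  have hb2 : bar b ≠ bar a := fun e' => hab (by rw [← hfr.bar_bar a, ← e', hfr.bar_bar])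
  have hrel : d * g1 = g * g1 * d := act_inj fun v => funext fun i => by
    simp only [act_mul, e1, hg, hd, elF, Pi.add_apply, Pi.sub_apply, Pi.smul_apply, smul_eq_mul]
    rcases eq_or_ne i a with rfl | h1
    · simp [hab', Ne.symm hab, hb1, Ne.symm hb]
      field_simp
      ring
    rcases eq_or_ne i (bar b) with rfl | h2
    · simp [h1, hb2, Ne.symm hb2, Ne.symm hab, hb1, ha]
      field_simp
      ring
    simp [h1, h2]
  have : g = ⁅d, g1⁆ := by
    rw [commutatorElement_def, hrel]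
    group
  rw [this]
  exact Subgroup.commutator_mem_commutator (Subgroup.mem_top _) (Subgroup.mem_top _)

theorem sh_commutator_diag {c : F} (hc0 : c ≠ 0) (hc1 : c ≠ 1) {o a : ι} (ho : bar o = o) (ha : bar a ≠ a)
    (t : F) (g : ↥(Cfsg.isometryGroup F Qf)) (hg : ∀ v, act g v = shF bar o a t v) :
    g ∈ commutator ↥(Cfsg.isometryGroup F Qf) := by
  have hc : c - 1 ≠ 0 := sub_ne_zero.mpr hc1
  obtain ⟨d, hd⟩ := exists_diag hQf hfr hpol0 ha hc0
  obtain ⟨g1, -, e1⟩ := natHom_sh h e hQf hfr hpol0 hbar ho ha (t / (c - 1))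
  have hoa : o ≠ a := fun e' => ha (e' ▸ ho)
  have hob : o ≠ bar a := fun e' => by
    rw [e', hfr.bar_bar] at ho
    exact ha ho.symm
  have hrel : d * g1 = g * g1 * d := act_inj fun v => funext fun i => by
    simp only [act_mul, e1, hg, hd, shF, Pi.add_apply, Pi.smul_apply, smul_eq_mul]
    rcases eq_or_ne i a with rfl | h1
    · simp [hoa, Ne.symm hoa, hob, Ne.symm hob, ha, Ne.symm ha]
      field_simp
      ring
    rcases eq_or_ne i o with rfl | h2
    · simp [h1, Ne.symm h1, hob, Ne.symm hob, ha, Ne.symm ha]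
      field_simp
      ring
    simp [h1, h2]
  have : g = ⁅d, g1⁆ := by
    rw [commutatorElement_def, hrel]
    group
  rw [this]
  exact Subgroup.commutator_mem_commutator (Subgroup.mem_top _) (Subgroup.mem_top _)

theorem exists_noncomm {a b : ι} (ha : bar a ≠ a) (hb : bar b ≠ b) (hab : a ≠ b) (hab' : a ≠ bar b) :
    ∃ x ∈ (natHom h e hQf hfr hpol0 hbar).range, ∃ y ∈ (natHom h e hQf hfr hpol0 hbar).range, x * y ≠ y * x := by
  have hba' : b ≠ bar a := fun e' => hab' (by rw [e', hfr.bar_bar])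
  obtain ⟨g1, m1, e1⟩ := natHom_el h e hQf hfr hpol0 hbar ha hb hab hab' 1
  obtain ⟨g2, m2, e2⟩ := natHom_el h e hQf hfr hpol0 hbar hb ha hab.symm hba' 1
  refine ⟨g1, m1, g2, m2, fun heq => ?_⟩
  have h1 := congrFun (congrArg (fun z => act z (Pi.single b 1)) heq) b
  simp [act_mul, e1, e2, elF, hab, hab.symm, hab', hba', hb, Ne.symm hb, ha, Ne.symm ha, Ne.symm hba'] at h1

end CfsgLib.Chevalley.Natural
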