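import Cfsg.Agent.Lib.Chevalley.Natural.NatData
import Cfsg.Agent.Lib.Chevalley.Natural.NatPerfect
import Cfsg.Agent.Lib.Orth.Standard
import Cfsg.Agent.Lib.Chevalley.TablesCerts

/-!
The checks for D₄ and B₂.
-/

set_option autoImplicit false
set_option maxRecDepth 20000

namespace CfsgLib.Chevalley.Natural

/-- The pairing of the coordinates of D₄. -/
def barD4 (a : ℕ) : ℕ := (a + 4) % 8

/-- The pairing of the coordinates of B₂. -/
def barB2 (a : ℕ) : ℕ := [0, 3, 4, 1, 2].getD a 0

theorem natD4_nat : NatOk natD4 Data.D4.tbl barD4 where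
  rep := natD4_ok
  st := ⟨Data.D4.valid, Data.D4.chkComm, Data.D4.chkSorted, Data.D4.chkSplit⟩
  el := by decide +kernel
  sh := by decide +kernel
  root := by decide +kernel
  sq := by decide +kernel

theorem natD4_tri : chkTri natD4 barD4 = true := by decide +kernel

theorem natB2_nat : NatOk natB2 Data.B2.tbl barB2 where
  rep := natB2_ok
  st := ⟨Data.B2.valid, Data.B2.chkComm, Data.B2.chkSorted, Data.B2.chkSplit⟩
  el := by decide +kernel
  sh := by decide +kernel
  root := by decide +kernel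
  sq := by decide +kernel

/-- The coordinates of D₄. -/
def eD4 : Fin natD4.n ≃ Fin 4 ⊕ Fin 4 := (finSumFinEquiv (m := 4) (n := 4)).symm

/-- The coordinates of B₂. -/
def eB2 : Fin natB2.n ≃ Unit ⊕ (Fin 2 ⊕ Fin 2) where
  toFun a := [Sum.inl (), Sum.inr (Sum.inl 0), Sum.inr (Sum.inl 1), Sum.inr (Sum.inr 0), Sum.inr (Sum.inr 1)].getD
    a.val (Sum.inl ())
  invFun
    | Sum.inl _ => ⟨0, by decide⟩
    | Sum.inr (Sum.inl i) => ⟨1 + i.val, by show 1 + i.val < 5; omega⟩
    | Sum.inr (Sum.inr i) => ⟨3 + i.val, by show 3 + i.val < 5; omega⟩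
  left_inv := by decide
  right_inv := by decide

theorem hbar_D4 : ∀ a : Fin natD4.n, (eD4.symm (Sum.swap (eD4 a))).val = barD4 a.val := by decide

theorem hbar_B2 : ∀ a : Fin natB2.n, (eB2.symm (Sum.map id Sum.swap (eB2 a))).val = barB2 a.val := by decide

variable {F : Type*} [Field F]

open QuadraticMap CfsgLib.Orth

theorem frame_plus : Frame (plusForm F 4) Sum.swap where
  bar_bar := Sum.swap_swap
  sing a _ := by
    rw [← plusForm_apply]
    rcases a with i | i <;> simp [Cfsg.quadFormPlus, Pi.single_apply]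
  pol a _ v := by
    rw [plusForm_polar]
    rcases a with i | i <;> simp [Pi.single_apply]
  uniq o _ h _ := by rcases o with i | i <;> simp at h
  unit o h := by rcases o with i | i <;> simp at h

theorem frame_odd : Frame (oddForm F 2) (Sum.map id Sum.swap) where
  bar_bar a := by rcases a with _ | (i | i) <;> rfl
  sing a ha := by
    rw [← oddForm_apply]
    rcases a with _ | (i | i)
    · exact absurd rfl ha
    all_goals simp [Cfsg.quadFormOdd, Pi.single_apply]
  pol a ha v := by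
    rw [oddForm_polar]
    rcases a with _ | (i | i)
    · exact absurd rfl ha
    all_goals simp [Pi.single_apply]
  uniq o o' h h' := by
    rcases o with _ | (i | i) <;> rcases o' with _ | (j | j) <;> simp at h h' ⊢
  unit o h := by
    rcases o with _ | (i | i) <;> simp at h
    rw [← oddForm_apply]
    simp [Cfsg.quadFormOdd, Pi.single_apply]

theorem pomega_D4_spec :
    ∃ E : ↥(Data.D4.tbl.datum.group F) ≃* Cfsg.POmega F (Cfsg.quadFormPlus 4 F),
      ∀ r < Data.D4.tbl.n, ∀ (t : F) (g : ↥(Data.D4.tbl.datum.group F)),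
        (g : GL Data.D4.tbl.I F) = Data.D4.tbl.xU F r t → ∃ s : ↥(Cfsg.Omega F (Cfsg.quadFormPlus 4 F)),
          ((s.1 : GL (Fin 4 ⊕ Fin 4) F) : Matrix (Fin 4 ⊕ Fin 4) (Fin 4 ⊕ Fin 4) F) = xM eD4 r t ∧
            E g = QuotientGroup.mk s := by
  have hfix : ∀ o : Fin 4 ⊕ Fin 4, Sum.swap o ≠ o := fun o => by rcases o with i | i <;> simp
  have hpol0 : ∀ o : Fin 4 ⊕ Fin 4, Sum.swap o = o → ∀ v, polar (plusForm F 4) (Pi.single o 1) v = 2 * v o :=
    fun o ho => absurd ho (hfix o)
  refine exists_iso_pomega_spec natD4_nat eD4 (plusForm_apply (F := F) 4) frame_plus hpol0 hbar_D4 ?_ ?_ ?_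
  · exact commutator_of_gens natD4_nat eD4 (plusForm_apply (F := F) 4) frame_plus hpol0 hbar_D4
      (fun a b ha hb h1 h2 t g hg =>
        el_commutator_tri natD4_nat eD4 (plusForm_apply (F := F) 4) frame_plus hpol0 hbar_D4 natD4_tri ha hb h1 h2 t g hg)
      (fun o a ho => absurd ho (hfix o))
  · exact (Tbl.simple_group Data.D4.valid Data.D4.chkComm (fun h => absurd h Bool.false_ne_true)
      Data.D4.chkPerfect Data.D4.chkConn).1
  · exact exists_noncomm natD4_nat eD4 (plusForm_apply (F := F) 4) frame_plus hpol0 hbar_D4 (a := Sum.inl 0) (b := Sum.inl 1)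
      (hfix _) (hfix _) (by decide) (by decide)

theorem pomega_D4 : Nonempty (↥(Data.D4.tbl.datum.group F) ≃* Cfsg.POmega F (Cfsg.quadFormPlus 4 F)) :=
  ⟨pomega_D4_spec.choose⟩

theorem pomega_B2 (hF : ∃ a : F, a ≠ 0 ∧ a ≠ 1) :
    Nonempty (↥(Data.B2.tbl.datum.group F) ≃* Cfsg.POmega F (Cfsg.quadFormOdd 2 F)) := by
  have hpol0 : ∀ o : Unit ⊕ (Fin 2 ⊕ Fin 2), Sum.map id Sum.swap o = o →
      ∀ v, polar (oddForm F 2) (Pi.single o 1) v = 2 * v o := by
    intro o ho v
    rcases o with _ | (i | i) <;> simp at ho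
    rw [oddForm_polar]
    simp [Pi.single_apply]
  obtain ⟨c, hc0, hc1⟩ := hF
  refine exists_iso_pomega natB2_nat eB2 (oddForm_apply (F := F) 2) frame_odd hpol0 hbar_B2 ?_ ?_ ?_
  · exact commutator_of_gens natB2_nat eB2 (oddForm_apply (F := F) 2) frame_odd hpol0 hbar_B2
      (fun a b ha hb h1 h2 t g hg =>
        el_commutator_diag natB2_nat eB2 (oddForm_apply (F := F) 2) frame_odd hpol0 hbar_B2 hc0 hc1 ha hb h1 h2 t g hg)
      (fun o a ho ha t g hg =>
        sh_commutator_diag natB2_nat eB2 (oddForm_apply (F := F) 2) frame_odd hpol0 hbar_B2 hc0 hc1 ho ha t g hg)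
  · exact (Tbl.simple_group Data.B2.valid Data.B2.chkComm (fun _ => ⟨c, hc0, hc1⟩)
      Data.B2.chkPerfect Data.B2.chkConn).1
  · exact exists_noncomm natB2_nat eB2 (oddForm_apply (F := F) 2) frame_odd hpol0 hbar_B2
      (a := Sum.inr (Sum.inl 0)) (b := Sum.inr (Sum.inl 1)) (by decide) (by decide) (by decide) (by decide)

end CfsgLib.Chevalley.Natural
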