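import Cfsg.Agent.Lib.Chevalley.Natural.PolyMat
import Cfsg.Agent.Lib.Chevalley.SteinbergKernel

/-!
Representations of the presented group given by tables of root matrices, the relations verified by a check.
-/

set_option autoImplicit false

namespace CfsgLib.Chevalley.Natural

open Matrix

/-- A table of root matrices: for each root, entries `(degree, row, column, coefficient)`. -/
structure RepData where
  /-- The dimension. -/
  n : ℕ
  /-- The entries. -/
  dat : ℕ → List (ℕ × ℕ × ℕ × ℤ)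

variable (D : RepData) (T : Tbl)

/-- `x_r(c t^i u^j)`. -/
def RepData.xP (r : ℕ) (c : ℤ) (i j : ℕ) : List PTm :=
  pid D.n ++ (D.dat r).map fun d => (d.1 * i, d.1 * j, d.2.1, d.2.2.1, d.2.2.2 * c ^ d.1)

/-- `x_r(t + u)`. -/
def RepData.xsumP (r : ℕ) : List PTm :=
  pid D.n ++ (D.dat r).flatMap fun d =>
    bif Nat.beq d.1 1 then [(1, 0, d.2.1, d.2.2.1, d.2.2.2), (0, 1, d.2.1, d.2.2.1, d.2.2.2)]
    else [(2, 0, d.2.1, d.2.2.1, d.2.2.2), (1, 1, d.2.1, d.2.2.1, 2 * d.2.2.2),
      (0, 2, d.2.1, d.2.2.1, d.2.2.2)]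

/-- The weight of the coordinate `a` on the coroot of `r`, from the bracket of the linear parts. -/
def RepData.wt (r a : ℕ) : ℤ :=
  let one := fun s => (D.dat s).filter fun d => Nat.beq d.1 1
  let half := fun p q => (((one p).filter fun d => Nat.beq d.2.1 a).flatMap fun d =>
    ((one q).filter fun d' => Nat.beq d'.2.1 d.2.2.1 && Nat.beq d'.2.2.1 a).map fun d' => d.2.2.2 * d'.2.2.2).sum
  half r (T.neg r) - half (T.neg r) r

/-- `h_r(t)` as a product. -/
def RepData.hP (r : ℕ) : List PTm :=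
  pprod D.n [D.xP r 1 1 0, D.xP (T.neg r) (-1) 0 1, D.xP r 1 1 0, D.xP r (-1) 0 0, D.xP (T.neg r) 1 0 0,
    D.xP r (-1) 0 0]

/-- The diagonal value of `h_r(t)`. -/
def RepData.diagP (r : ℕ) : List PTm :=
  (List.range D.n).map fun a => ((D.wt T r a).toNat, (-(D.wt T r a)).toNat, a, a, 1)

def RepData.chkDeg : Bool :=
  allLt (fun r => (D.dat r).all fun d => Nat.beq d.1 1 || Nat.beq d.1 2) T.n

def RepData.chkAdd : Bool :=
  allLt (fun r => pEq (pprod D.n [D.xP r 1 1 0, D.xP r 1 0 1]) (D.xsumP r)) T.n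

def RepData.chkCommN : Bool :=
  allLt (fun r => allLt (fun s => Nat.beq s r || Nat.beq s (T.neg r) ||
    pEq (pprod D.n [D.xP s 1 0 1, D.xP r 1 1 0])
      (pprod D.n ([D.xP r 1 1 0, D.xP s 1 0 1] ++
        (T.commT r s).map fun c => D.xP c.1 (c.2.1 * (-1) ^ c.2.2.1) c.2.2.1 c.2.2.2))) T.n) T.n

def RepData.chkTor : Bool :=
  allLt (fun r => pEqL (D.hP T r) (D.diagP T r)) T.n

/-- The verified hypotheses. -/
structure RepOk : Prop where
  deg : D.chkDeg T = true
  add : D.chkAdd T = true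
  comm : D.chkCommN T = true
  tor : D.chkTor T = true

variable {D} {T} {ι : Type} [Fintype ι] [DecidableEq ι] (e : Fin D.n ≃ ι) {F : Type*} [Field F]

/-- The root matrix. -/
def xM (r : ℕ) (t : F) : Matrix ι ι F := ev e t 0 (D.xP r 1 1 0)

theorem ev_dat (r : ℕ) (c : ℤ) (i j : ℕ) (t u : F) :
    ev e t u (D.xP r c i j) = xM e r ((c : F) * t ^ i * u ^ j) := by
  rw [xM, RepData.xP, RepData.xP, ev_append, ev_append, ev_pid, ev_pid, ev, ev, List.map_map, List.map_map]
  refine congrArg (fun L : List (Matrix ι ι F) => 1 + L.sum) (List.map_congr_left fun d _ => ?_)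
  simp only [Function.comp_apply, evT, mul_one, mul_zero, pow_zero, one_pow]
  congr 1
  push_cast
  rw [mul_pow, mul_pow, ← pow_mul, ← pow_mul, mul_comm i, mul_comm j]
  ring

variable (hD : RepOk D T)
include hD

theorem ev_xsum {r : ℕ} (hr : r < T.n) (t u : F) : ev e t u (D.xsumP r) = xM e r (t + u) := by
  rw [xM, RepData.xP, RepData.xsumP, ev_append, ev_append, ev_pid, ev_pid]
  congr 1
  have hdeg : ∀ d ∈ D.dat r, d.1 = 1 ∨ d.1 = 2 := fun d hd => by
    have := List.all_eq_true.mp (allLt_iff.mp hD.deg r hr) d hd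
    simpa using this
  revert hdeg
  generalize D.dat r = L
  intro hdeg
  induction L with
  | nil => simp [ev]
  | cons d L ih =>
    rw [List.flatMap_cons, List.map_cons, ev_append, ev_cons, ih (fun x hx => hdeg x (List.mem_cons_of_mem _ hx))]
    congr 1
    rcases hdeg d (List.mem_cons_self ..) with h | h <;>
      simp [ev, evT, h, show Nat.beq 2 1 = false from rfl, ← add_smul] <;> congr 1 <;> ring

theorem xM_mul {r : ℕ} (hr : r < T.n) (t u : F) : xM e r t * xM e r u = xM e r (t + u) := by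
  have h := pEq_ev e (R := F) (allLt_iff.mp hD.add r hr) t u
  rw [ev_pprod, List.map_cons, List.map_cons, List.map_nil, List.prod_cons, List.prod_cons, List.prod_nil,
    mul_one, ev_dat, ev_dat, ev_xsum e hD hr] at h
  simpa using h

omit hD in
theorem xM_zero (r : ℕ) (hdeg : ∀ d ∈ D.dat r, d.1 ≠ 0) : xM e r (0 : F) = 1 := by
  rw [xM, RepData.xP, ev_append, ev_pid]
  conv_rhs => rw [← add_zero (1 : Matrix ι ι F)]
  congr 1
  rw [ev, List.map_map]
  refine List.sum_eq_zero fun M hM => ?_
  obtain ⟨d, hd, rfl⟩ := List.mem_map.mp hM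
  simp [evT, zero_pow (hdeg d hd)]

theorem xM_zero' {r : ℕ} (hr : r < T.n) : xM e r (0 : F) = 1 :=
  xM_zero e r fun d hd => by
    have := List.all_eq_true.mp (allLt_iff.mp hD.deg r hr) d hd
    simp at this
    omega

/-- The root element. -/
noncomputable def xN (r : ℕ) (t : F) : GL ι F :=
  if hr : r < T.n then
    { val := xM e r t
      inv := xM e r (-t)
      val_inv := by rw [xM_mul e hD hr, add_neg_cancel, xM_zero' e hD hr]
      inv_val := by rw [xM_mul e hD hr, neg_add_cancel, xM_zero' e hD hr] }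
  else 1

theorem xN_val {r : ℕ} (hr : r < T.n) (t : F) : (xN e hD r t : Matrix ι ι F) = xM e r t := by
  rw [xN, dif_pos hr]

theorem xN_mul {r : ℕ} (hr : r < T.n) (t u : F) : xN e hD r t * xN e hD r u = xN e hD r (t + u) :=
  Units.ext (by rw [Units.val_mul, xN_val e hD hr, xN_val e hD hr, xN_val e hD hr, xM_mul e hD hr])

variable (hT : T.Valid)
include hT

theorem xN_comm {r s : ℕ} (hr : r < T.n) (hs : s < T.n) (hrs : s ≠ r) (hneg : s ≠ T.neg r) (t u : F) :
    xN e hD s u * xN e hD r t = xN e hD r t * xN e hD s u *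
      ((T.commT r s).map fun c => xN e hD c.1 ((c.2.1 : F) * (-t) ^ c.2.2.1 * u ^ c.2.2.2)).prod := by
  have h := allLt_iff.mp (allLt_iff.mp hD.comm r hr) s hs
  simp only [Bool.or_eq_true, Nat.beq_eq, hrs, hneg, false_or] at h
  have h2 := pEq_ev e (R := F) h t u
  rw [ev_pprod, ev_pprod, List.map_append, List.prod_append, List.map_map] at h2
  simp only [List.map_cons, List.map_nil, List.prod_cons, List.prod_nil, mul_one, ev_dat] at h2
  refine Units.ext ?_
  rw [Units.val_mul, Units.val_mul, Units.val_mul, xN_val e hD hr, xN_val e hD hs]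
  have hval : ((((T.commT r s).map fun c => xN e hD c.1 ((c.2.1 : F) * (-t) ^ c.2.2.1 * u ^ c.2.2.2)).prod :
      GL ι F) : Matrix ι ι F) =
      ((T.commT r s).map fun c => xM e c.1 ((c.2.1 : F) * (-t) ^ c.2.2.1 * u ^ c.2.2.2)).prod := by
    rw [← Units.coeHom_apply, map_list_prod, List.map_map]
    exact congrArg List.prod (List.map_congr_left fun c hc => xN_val e hD (Tbl.commT_lt hT hr hs c hc) _)
  rw [hval]
  have e1 : ((T.commT r s).map fun c => xM e c.1 ((c.2.1 : F) * (-t) ^ c.2.2.1 * u ^ c.2.2.2)) =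
      (T.commT r s).map (ev e t u ∘ fun c => D.xP c.1 (c.2.1 * (-1) ^ c.2.2.1) c.2.2.1 c.2.2.2) := by
    refine List.map_congr_left fun c _ => ?_
    rw [Function.comp_apply, ev_dat]
    congr 1
    push_cast
    rw [neg_pow t]
    ring
  rw [e1]
  simpa using h2

theorem xN_tor {r : ℕ} (hr : r < T.n) {t : F} (ht : t ≠ 0) :
    ((xN e hD r t * xN e hD (T.neg r) (-t⁻¹) * xN e hD r t * (xN e hD r (-1) * xN e hD (T.neg r) 1 *
        xN e hD r (-1)) : GL ι F) : Matrix ι ι F) = Matrix.diagonal fun i => t ^ D.wt T r (e.symm i).val := by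
  have h := pEqL_ev e (K := F) (allLt_iff.mp hD.tor r hr) ht
  rw [RepData.hP, ev_pprod] at h
  simp only [List.map_cons, List.map_nil, List.prod_cons, List.prod_nil, mul_one, ev_dat] at h
  have hn : T.neg r < T.n := Tbl.neg_lt' hr
  simp only [Units.val_mul, xN_val e hD hr, xN_val e hD hn]
  have hd : ev e t t⁻¹ (D.diagP T r) = Matrix.diagonal fun i => t ^ D.wt T r (e.symm i).val := by
    rw [ev, RepData.diagP, List.map_map, sum_range_map]
    rw [Finset.sum_range fun a => (evT e t t⁻¹ ∘
      fun a => ((D.wt T r a).toNat, (-(D.wt T r a)).toNat, a, a, (1 : ℤ))) a]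
    ext i j
    obtain ⟨a, rfl⟩ := e.surjective i
    obtain ⟨b, rfl⟩ := e.surjective j
    rw [Matrix.sum_apply, Finset.sum_eq_single a]
    · simp only [Function.comp_apply, evT, unitM, a.2, and_self, dite_true, Matrix.smul_apply, Matrix.single_apply,
        Matrix.diagonal_apply, e.apply_eq_iff_eq, Equiv.symm_apply_apply, smul_eq_mul, Fin.eta, true_and,
        Int.cast_one, one_mul]
      split_ifs with hab
      · rw [mul_one, inv_pow, ← zpow_natCast, ← zpow_natCast, ← div_eq_mul_inv, ← zpow_sub₀ ht]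
        congr 1
        omega
      · rw [mul_zero]
    · intro c _ hc
      simp [evT, unitM, Matrix.single_apply, hc]
    · simp
  rw [← hd, ← h]
  simp [mul_assoc]

/-- The homomorphism from the presented group. -/
noncomputable def repHom : T.datum.SteinbergGroup F →* GL ι F :=
  PresentedGroup.toGroup (f := fun p : Fin T.datum.nroots × F => xN e hD p.1.val p.2) (by
    have hX : ∀ r < T.n, ∀ t : F,
        FreeGroup.lift (fun p : Fin T.datum.nroots × F => xN e hD p.1.val p.2) (T.datum.stX r t) =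
          xN e hD r t := by
      intro r hr t
      rw [Cfsg.Lie.ChevalleyDatum.stX, dif_pos hr, FreeGroup.lift_apply_of]
    have hW : ∀ w : List (ℕ × F), (∀ p ∈ w, p.1 < T.n) →
        FreeGroup.lift (fun p : Fin T.datum.nroots × F => xN e hD p.1.val p.2) (T.datum.stWord w) =
          (w.map fun p => xN e hD p.1 p.2).prod := by
      intro w hw
      rw [Cfsg.Lie.ChevalleyDatum.stWord, map_list_prod, List.map_map]
      exact congrArg List.prod (List.map_congr_left fun p hp => hX p.1 (hw p hp) p.2)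
    rintro g ((⟨r, t₁, t₂, hr, rfl⟩ | ⟨r, s, t, u, hr, hs, hrs, hneg, rfl⟩) |
      ⟨r, t₁, t₂, hr, h₁, h₂, rfl⟩)
    · have hr' : r < T.n := hr
      simp only [map_mul, map_inv, hX r hr', xN_mul e hD hr', mul_inv_cancel]
    · have hr' : r < T.n := hr
      have hs' : s < T.n := hs
      rw [Tbl.datum_neg hr'] at hneg
      simp only [map_mul, map_inv, hX r hr', hX s hs']
      rw [hW _ (by
        intro p hp
        simp only [Cfsg.Lie.ChevalleyDatum.commWord, Tbl.datum_commTerms hT hr' hs', List.mem_map] at hp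
        obtain ⟨c, hc, rfl⟩ := hp
        exact Tbl.commT_lt hT hr' hs' c hc)]
      simp only [Cfsg.Lie.ChevalleyDatum.commWord, Tbl.datum_commTerms hT hr' hs', List.map_map,
        Function.comp_def]
      rw [mul_assoc _ (xN e hD s u) (xN e hD r t), xN_comm e hD hT hr' hs' hrs hneg t u]
      group
    · have hr' : r < T.n := hr
      have hh : ∀ c : F, FreeGroup.lift (fun p : Fin T.datum.nroots × F => xN e hD p.1.val p.2)
          (T.datum.stH r c) = xN e hD r c * xN e hD (T.neg r) (-c⁻¹) * xN e hD r c *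
            (xN e hD r (-1) * xN e hD (T.neg r) 1 * xN e hD r (-1)) := by
        intro c
        rw [Cfsg.Lie.ChevalleyDatum.stH, hW]
        · simp [Cfsg.Lie.ChevalleyDatum.hWord, Cfsg.Lie.ChevalleyDatum.nWord, Tbl.datum_neg hr', mul_assoc]
        · have := Tbl.neg_lt' hr'
          simp [Cfsg.Lie.ChevalleyDatum.hWord, Cfsg.Lie.ChevalleyDatum.nWord, Tbl.datum_neg hr', hr', this]
      simp only [map_mul, map_inv, hh]
      rw [mul_inv_eq_one]
      refine Units.ext ?_
      rw [Units.val_mul, xN_tor e hD hT hr' h₁, xN_tor e hD hT hr' h₂, xN_tor e hD hT hr' (mul_ne_zero h₁ h₂),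
        Matrix.diagonal_mul_diagonal]
      congr 1
      funext i
      rw [mul_zpow])

theorem repHom_sX {r : ℕ} (hr : r < T.n) (t : F) : repHom e hD hT (T.sX F r t) = xN e hD r t := by
  rw [Tbl.sX, Cfsg.Lie.ChevalleyDatum.stGen, Cfsg.Lie.ChevalleyDatum.stX, dif_pos hr]
  exact PresentedGroup.toGroup.of _

theorem repHom_sH {r : ℕ} (hr : r < T.n) {t : F} (ht : t ≠ 0) :
    (repHom e hD hT (T.sH F r t) : Matrix ι ι F) = Matrix.diagonal fun i => t ^ D.wt T r (e.symm i).val := by
  rw [← xN_tor e hD hT hr ht]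
  simp only [Tbl.sH, Tbl.sN, map_mul, repHom_sX e hD hT hr, repHom_sX e hD hT (Tbl.neg_lt' hr), inv_neg, inv_one,
    neg_neg]

/-- The group generated by the root matrices. -/
theorem repHom_range : (repHom e hD hT (F := F)).range =
    Subgroup.closure {g | ∃ r < T.n, ∃ t : F, g = xN e hD r t} := by
  refine le_antisymm ?_ ((Subgroup.closure_le _).mpr ?_)
  · rw [MonoidHom.range_eq_map, ← PresentedGroup.closure_range_of (T.datum.steinbergRels F),
      MonoidHom.map_closure, Subgroup.closure_le]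
    rintro _ ⟨_, ⟨⟨r, t⟩, rfl⟩, rfl⟩
    exact Subgroup.subset_closure ⟨r.val, r.2, t, PresentedGroup.toGroup.of _⟩
  · rintro _ ⟨r, hr, t, rfl⟩
    exact ⟨_, repHom_sX e hD hT hr t⟩

end CfsgLib.Chevalley.Natural
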