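import Cfsg.Agent.Lib.Chevalley.Natural.Frame
import Cfsg.Agent.Lib.Chevalley.Natural.NatRep

/-!
The Chevalley group as the projective commutator group of the isometries of a framed form.
-/

set_option autoImplicit false

namespace CfsgLib.Chevalley.Natural

open Matrix QuadraticMap

/-- The elementary transformation attached to `a`, `b`. -/
def elP (n : ℕ) (bar : ℕ → ℕ) (a b : ℕ) (c : ℤ) (i j : ℕ) : List PTm :=
  pid n ++ [(i, j, a, b, c), (i, j, bar b, bar a, -c)]

/-- The short elementary transformation attached to a fixed `o` and `a`. -/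
def shP (n : ℕ) (bar : ℕ → ℕ) (o a : ℕ) : List PTm :=
  pid n ++ [(1, 0, a, o, -2), (1, 0, o, bar a, 1), (2, 0, a, bar a, -1)]

/-- Admissible pairs. -/
def elOk (bar : ℕ → ℕ) (a b : ℕ) : Bool :=
  !(Nat.beq (bar a) a) && !(Nat.beq (bar b) b) && !(Nat.beq a b) && !(Nat.beq a (bar b))

/-- Admissible short pairs. -/
def shOk (bar : ℕ → ℕ) (o a : ℕ) : Bool := Nat.beq (bar o) o && !(Nat.beq (bar a) a)

def chkEl (D : RepData) (T : Tbl) (bar : ℕ → ℕ) : Bool :=
  allLt (fun a => allLt (fun b => !(elOk bar a b) || (List.range T.n).any fun r =>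
    [1, -1].any fun σ : ℤ => pEq (D.xP r σ 1 0) (elP D.n bar a b 1 1 0)) D.n) D.n

def chkSh (D : RepData) (T : Tbl) (bar : ℕ → ℕ) : Bool :=
  allLt (fun o => allLt (fun a => !(shOk bar o a) || (List.range T.n).any fun r =>
    [1, -1].any fun σ : ℤ => pEq (D.xP r σ 1 0) (shP D.n bar o a)) D.n) D.n

def chkRoot (D : RepData) (T : Tbl) (bar : ℕ → ℕ) : Bool :=
  allLt (fun r => (List.range D.n).any fun a => (List.range D.n).any fun b => [1, -1].any fun σ : ℤ =>
    (elOk bar a b && pEq (D.xP r σ 1 0) (elP D.n bar a b 1 1 0)) ||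
      (shOk bar a b && pEq (D.xP r σ 1 0) (shP D.n bar a b))) T.n

def chkSq (D : RepData) (T : Tbl) (bar : ℕ → ℕ) : Bool :=
  allLt (fun a => Nat.beq (bar a) a || (List.range T.n).any fun r => (List.range T.n).any fun r' =>
    (List.range D.n).all fun c => decide (D.wt T r c + D.wt T r' c =
      bif Nat.beq c a then 2 else bif Nat.beq c (bar a) then -2 else 0)) D.n

/-- The triangle relation. -/
def chkTri (D : RepData) (bar : ℕ → ℕ) : Bool :=
  allLt (fun a => allLt (fun b => !(elOk bar a b) || (List.range D.n).any fun c =>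
    elOk bar a c && elOk bar c b &&
      pEq (pprod D.n [elP D.n bar a c 1 1 0, elP D.n bar c b 1 0 0])
        (pprod D.n [elP D.n bar a b 1 1 0, elP D.n bar c b 1 0 0, elP D.n bar a c 1 1 0])) D.n) D.n

/-- The verified hypotheses on a table and a pairing. -/
structure NatOk (D : RepData) (T : Tbl) (bar : ℕ → ℕ) : Prop where
  rep : RepOk D T
  st : T.StOk
  el : chkEl D T bar = true
  sh : chkSh D T bar = true
  root : chkRoot D T bar = true
  sq : chkSq D T bar = true

/-- The action of an elementary transformation. -/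
def elF {F : Type*} [Field F] {ι : Type} [DecidableEq ι] (bar : ι → ι) (a b : ι) (t : F) (v : ι → F) : ι → F :=
  v + (t * v b) • Pi.single a 1 - (t * v (bar a)) • Pi.single (bar b) 1

/-- The action of a short elementary transformation. -/
def shF {F : Type*} [Field F] {ι : Type} [DecidableEq ι] (bar : ι → ι) (o a : ι) (t : F) (v : ι → F) : ι → F :=
  v + (-2 * t * v o - t ^ 2 * v (bar a)) • Pi.single a 1 + (t * v (bar a)) • Pi.single o 1

variable {D : RepData} {T : Tbl} {barN : ℕ → ℕ} (h : NatOk D T barN) {F : Type*} [Field F]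
  {ι : Type} [Fintype ι] [DecidableEq ι] (e : Fin D.n ≃ ι) {Qf : (ι → F) → F}
  {Q : QuadraticForm F (ι → F)} {bar : ι → ι} (hQf : ∀ v, Qf v = Q v) (hfr : Frame Q bar)
  (hpol0 : ∀ o, bar o = o → ∀ v, polar Q (Pi.single o 1) v = 2 * v o)
  (hbar : ∀ a : Fin D.n, (e.symm (bar (e a))).val = barN a.val)

theorem beq_false_iff {a b : ℕ} : Nat.beq a b = false ↔ a ≠ b := by
  rw [← Bool.not_eq_true]; simp

theorem single_mulVec' (i j : ι) (c : F) (v : ι → F) :
    (c • Matrix.single i j (1 : F)) *ᵥ v = (c * v j) • Pi.single i 1 := by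
  funext k
  rw [Matrix.smul_mulVec]
  rcases eq_or_ne k i with rfl | hk
  · simp [Matrix.mulVec, dotProduct, Matrix.single_apply]
  · simp [Matrix.mulVec, dotProduct, Matrix.single_apply, hk, Ne.symm hk]

include hbar

theorem bar_e (a : Fin D.n) : ∃ hlt : barN a.val < D.n, bar (e a) = e ⟨barN a.val, hlt⟩ := by
  refine ⟨hbar a ▸ (e.symm (bar (e a))).2, ?_⟩
  apply e.symm.injective
  refine Fin.ext ((hbar a).trans ?_)
  rw [Equiv.symm_apply_apply]

theorem bar_fix_iff (a : Fin D.n) : bar (e a) = e a ↔ barN a.val = a.val := by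
  obtain ⟨_, hb⟩ := bar_e e hbar a
  rw [hb, e.injective.eq_iff, Fin.ext_iff]

theorem elOk_iff (a b : Fin D.n) : elOk barN a.val b.val = true ↔
    bar (e a) ≠ e a ∧ bar (e b) ≠ e b ∧ e a ≠ e b ∧ e a ≠ bar (e b) := by
  obtain ⟨_, hb⟩ := bar_e e hbar b
  have h4 : e a = bar (e b) ↔ a.val = barN b.val := by rw [hb, e.injective.eq_iff, Fin.ext_iff]
  simp only [ne_eq, bar_fix_iff e hbar, h4, e.injective.eq_iff, Fin.ext_iff]
  simp [elOk, and_assoc, beq_false_iff]

theorem shOk_iff (o a : Fin D.n) : shOk barN o.val a.val = true ↔ bar (e o) = e o ∧ bar (e a) ≠ e a := by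
  simp [shOk, bar_fix_iff e hbar, beq_false_iff]

theorem ev_elP (a b : Fin D.n) (t : F) (v : ι → F) :
    ev e t 0 (elP D.n barN a.val b.val 1 1 0) *ᵥ v = elF bar (e a) (e b) t v := by
  obtain ⟨ha', hba⟩ := bar_e e hbar a
  obtain ⟨hb', hbb⟩ := bar_e e hbar b
  rw [elP, ev_append, ev_pid, ev_cons, ev_cons, ev_nil, add_zero]
  simp only [evT, unitM, a.2, b.2, ha', hb', and_self, dite_true, pow_one, pow_zero, mul_one, Fin.eta]
  rw [Matrix.add_mulVec, Matrix.add_mulVec, Matrix.one_mulVec, single_mulVec', single_mulVec', ← hba, ← hbb,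
    elF]
  push_cast
  module

theorem ev_shP (o a : Fin D.n) (t : F) (v : ι → F) :
    ev e t 0 (shP D.n barN o.val a.val) *ᵥ v = shF bar (e o) (e a) t v := by
  obtain ⟨ha', hba⟩ := bar_e e hbar a
  rw [shP, ev_append, ev_pid, ev_cons, ev_cons, ev_cons, ev_nil, add_zero]
  simp only [evT, unitM, a.2, o.2, ha', and_self, dite_true, pow_one, pow_zero, mul_one, Fin.eta]
  rw [Matrix.add_mulVec, Matrix.add_mulVec, Matrix.add_mulVec, Matrix.one_mulVec, single_mulVec', single_mulVec',
    single_mulVec', ← hba, shF]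
  push_cast
  module

omit hbar in
theorem xM_of_check {r : ℕ} {σ : ℤ} {P : List PTm} (hP : pEq (D.xP r σ 1 0) P = true) (t : F) :
    xM e r ((σ : F) * t) = ev e t 0 P := by
  rw [← pEq_ev e hP t 0, ev_dat]
  simp

include h

/-- Each root matrix is an elementary transformation. -/
theorem root_cases {r : ℕ} (hr : r < T.n) : ∃ σ : F, σ * σ = 1 ∧
    ((∃ a b, bar a ≠ a ∧ bar b ≠ b ∧ a ≠ b ∧ a ≠ bar b ∧ ∀ t v, xM e r t *ᵥ v = elF bar a b (σ * t) v) ∨
      ∃ o a, bar o = o ∧ bar a ≠ a ∧ ∀ t v, xM e r t *ᵥ v = shF bar o a (σ * t) v) := by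
  have hc := allLt_iff.mp h.root r hr
  simp only [List.any_eq_true, List.mem_range, Bool.or_eq_true, Bool.and_eq_true] at hc
  obtain ⟨a, ha, b, hb, σ, hσ, hc⟩ := hc
  have hσ2 : (σ : F) * σ = 1 := by
    simp at hσ
    rcases hσ with rfl | rfl <;> simp
  refine ⟨σ, hσ2, ?_⟩
  have ht : ∀ t : F, xM e r t = xM e r ((σ : F) * ((σ : F) * t)) := fun t => by
    rw [← mul_assoc, hσ2, one_mul]
  rcases hc with ⟨ho, hP⟩ | ⟨ho, hP⟩
  · obtain ⟨h1, h2, h3, h4⟩ := (elOk_iff e hbar ⟨a, ha⟩ ⟨b, hb⟩).mp ho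
    exact Or.inl ⟨_, _, h1, h2, h3, h4, fun t v => by
      rw [ht, xM_of_check e hP, ← ev_elP e hbar ⟨a, ha⟩ ⟨b, hb⟩]⟩
  · obtain ⟨h1, h2⟩ := (shOk_iff e hbar ⟨a, ha⟩ ⟨b, hb⟩).mp ho
    exact Or.inr ⟨_, _, h1, h2, fun t v => by rw [ht, xM_of_check e hP, ← ev_shP e hbar ⟨a, ha⟩ ⟨b, hb⟩]⟩

include hQf hfr hpol0

omit h hbar hpol0 in
theorem el_quad {a b : ι} (ha : bar a ≠ a) (hb : bar b ≠ b) (hab : a ≠ b) (t : F) (v : ι → F) :
    Qf (elF bar a b t v) = Qf v := by
  have hb' := hfr.bar_ne hb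
  have hne : bar a ≠ bar b := fun e' => hab (by rw [← hfr.bar_bar a, e', hfr.bar_bar])
  rw [hQf, hQf, elF, sub_eq_add_neg, ← neg_smul, QuadraticMap.map_add (⇑Q), QuadraticMap.map_add (⇑Q),
    polar_add_left, polar_comm _ v, polar_comm _ v, QuadraticMap.map_smul, QuadraticMap.map_smul, polar_smul_left,
    polar_smul_left, polar_smul_left, polar_smul_right, hfr.sing a ha, hfr.sing _ hb', hfr.pol a ha,
    hfr.pol _ hb', hfr.pol a ha, hfr.bar_bar, Pi.single_apply, if_neg hne]
  simp only [smul_eq_mul]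
  ring

omit h hbar in
theorem sh_quad {o a : ι} (ho : bar o = o) (ha : bar a ≠ a) (t : F) (v : ι → F) :
    Qf (shF bar o a t v) = Qf v := by
  have hne : a ≠ o := fun e' => ha (e' ▸ ho)
  have hne' : bar a ≠ o := fun e' => by
    rw [← e', hfr.bar_bar] at ho
    exact ha ho.symm
  rw [hQf, hQf, shF, QuadraticMap.map_add (⇑Q), QuadraticMap.map_add (⇑Q), polar_add_left, polar_comm _ v,
    polar_comm _ v, QuadraticMap.map_smul, QuadraticMap.map_smul, polar_smul_left, polar_smul_left, polar_smul_left,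
    polar_smul_right, hfr.sing a ha, hfr.unit o ho, hfr.pol a ha, hpol0 o ho, hfr.pol a ha, Pi.single_apply,
    if_neg hne']
  simp only [smul_eq_mul]
  ring

theorem xN_mem {r : ℕ} (hr : r < T.n) (t : F) : xN e h.rep r t ∈ Cfsg.isometryGroup F Qf := by
  intro u v
  show Qf ((xN e h.rep r t : Matrix ι ι F) *ᵥ u) = Qf u
  rw [xN_val e h.rep hr]
  obtain ⟨σ, -, ⟨a, b, h1, h2, h3, -, he⟩ | ⟨o, a, h1, h2, he⟩⟩ := root_cases h e hbar hr (F := F)
  · rw [he]; exact el_quad hQf hfr h1 h2 h3 _ u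
  · rw [he]; exact sh_quad hQf hfr hpol0 h1 h2 _ u

/-- The root elements as isometries. -/
noncomputable def natHom : T.datum.SteinbergGroup F →* ↥(Cfsg.isometryGroup F Qf) :=
  (repHom e h.rep h.st.valid).codRestrict _ fun x => by
    have : (repHom e h.rep h.st.valid (F := F)).range ≤ Cfsg.isometryGroup F Qf := by
      rw [repHom_range, Subgroup.closure_le]
      rintro _ ⟨r, hr, t, rfl⟩
      exact xN_mem h e hQf hfr hpol0 hbar hr t
    exact this ⟨x, rfl⟩

theorem natHom_sX {r : ℕ} (hr : r < T.n) (t : F) (v : ι → F) :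
    act (natHom h e hQf hfr hpol0 hbar (T.sX F r t)) v = xM e r t *ᵥ v := by
  show (repHom e h.rep h.st.valid (T.sX F r t) : Matrix ι ι F) *ᵥ v = _
  rw [repHom_sX e h.rep h.st.valid hr, xN_val e h.rep hr]

theorem natHom_el {a b : ι} (ha : bar a ≠ a) (hb : bar b ≠ b) (hab : a ≠ b) (hab' : a ≠ bar b) (t : F) :
    ∃ g ∈ (natHom h e hQf hfr hpol0 hbar).range, ∀ v, act g v = elF bar a b t v := by
  obtain ⟨a, rfl⟩ := e.surjective a
  obtain ⟨b, rfl⟩ := e.surjective b
  have hok := (elOk_iff e hbar a b).mpr ⟨ha, hb, hab, hab'⟩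
  have hc := allLt_iff.mp (allLt_iff.mp h.el a.val a.2) b.val b.2
  simp only [hok, Bool.not_true, Bool.false_or, List.any_eq_true, List.mem_range] at hc
  obtain ⟨r, hr, σ, -, hP⟩ := hc
  refine ⟨_, ⟨T.sX F r ((σ : F) * t), rfl⟩, fun v => ?_⟩
  rw [natHom_sX h e hQf hfr hpol0 hbar hr, xM_of_check e hP, ev_elP e hbar]

theorem natHom_sh {o a : ι} (ho : bar o = o) (ha : bar a ≠ a) (t : F) :
    ∃ g ∈ (natHom h e hQf hfr hpol0 hbar).range, ∀ v, act g v = shF bar o a t v := by
  obtain ⟨o, rfl⟩ := e.surjective o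
  obtain ⟨a, rfl⟩ := e.surjective a
  have hok := (shOk_iff e hbar o a).mpr ⟨ho, ha⟩
  have hc := allLt_iff.mp (allLt_iff.mp h.sh o.val o.2) a.val a.2
  simp only [hok, Bool.not_true, Bool.false_or, List.any_eq_true, List.mem_range] at hc
  obtain ⟨r, hr, σ, -, hP⟩ := hc
  refine ⟨_, ⟨T.sX F r ((σ : F) * t), rfl⟩, fun v => ?_⟩
  rw [natHom_sX h e hQf hfr hpol0 hbar hr, xM_of_check e hP, ev_shP e hbar]

omit h hQf hfr hpol0 hbar in
theorem act_inj {g g' : ↥(Cfsg.isometryGroup F Qf)} (he : ∀ v, act g v = act g' v) : g = g' :=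
  act_ext fun c => he _

/-- Diagonal isometries. -/
def IsDiagEl (x : ↥(Cfsg.isometryGroup F Qf)) : Prop :=
  ∃ f : ι → F, ∀ v c, act x v c = f c * v c

/-- Flips. -/
def IsFlipEl (bar : ι → ι) (x : ↥(Cfsg.isometryGroup F Qf)) : Prop :=
  ∃ a, bar a ≠ a ∧ ∀ v c, act x v c = v (Equiv.swap a (bar a) c)

omit h hbar in
theorem diag_rel {x : ↥(Cfsg.isometryGroup F Qf)} {f : ι → F} (hx : ∀ v c, act x v c = f c * v c) :
    (∀ a, bar a ≠ a → f a * f (bar a) = 1) ∧ ∀ o, bar o = o → f o * f o = 1 := by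
  have hs : ∀ c, act x (Pi.single c 1) = f c • Pi.single c 1 := fun c => funext fun d => by
    rw [hx]
    rcases eq_or_ne d c with rfl | hd
    · simp
    · simp [hd]
  constructor
  · intro a ha
    have h1 := act_polar hQf x (Pi.single a 1) (Pi.single (bar a) 1)
    rw [hs, hs, polar_smul_left, polar_smul_right, hfr.pol a ha] at h1
    simpa using h1
  · intro o ho
    have h1 : Qf (act x (Pi.single o 1)) = 1 := (act_quad x _).trans ((hQf _).trans (hfr.unit o ho))
    rw [hs, hQf, QuadraticMap.map_smul, hfr.unit o ho] at h1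
    simpa using h1

omit h hQf hpol0 hbar in
theorem quad_split {a : ι} (ha : bar a ≠ a) (v : ι → F) :
    Q v = Q (v - v a • Pi.single a 1 - v (bar a) • Pi.single (bar a) 1) + v a * v (bar a) := by
  set z := v - v a • Pi.single a 1 - v (bar a) • Pi.single (bar a) 1 with hz
  have e' : v = z + (v a • Pi.single a 1 + v (bar a) • Pi.single (bar a) 1) := by rw [hz]; abel
  conv_lhs => rw [e']
  rw [QuadraticMap.map_add (⇑Q), QuadraticMap.map_add (⇑Q) (v a • _), QuadraticMap.map_smul,
    QuadraticMap.map_smul, polar_add_right, polar_smul_right, polar_smul_right, polar_smul_left, polar_smul_right,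
    hfr.sing a ha, hfr.sing _ (hfr.bar_ne ha), polar_comm _ z, polar_comm _ z, hfr.pol a ha,
    hfr.pol _ (hfr.bar_ne ha), hfr.pol a ha, hfr.bar_bar]
  simp [hz, ha, Ne.symm ha]
  ring

omit h hQf hfr hpol0 hbar in
theorem exists_iso (M N : Matrix ι ι F) (h1 : ∀ v, M *ᵥ (N *ᵥ v) = v) (h2 : ∀ v, N *ᵥ (M *ᵥ v) = v)
    (h3 : ∀ v, Qf (M *ᵥ v) = Qf v) : ∃ g : ↥(Cfsg.isometryGroup F Qf), ∀ v, act g v = M *ᵥ v := by
  have e1 : M * N = 1 := Matrix.ext_iff_mulVec.mpr fun v => by
    rw [← Matrix.mulVec_mulVec, h1, Matrix.one_mulVec]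
  have e2 : N * M = 1 := Matrix.ext_iff_mulVec.mpr fun v => by
    rw [← Matrix.mulVec_mulVec, h2, Matrix.one_mulVec]
  exact ⟨⟨⟨M, N, e1, e2⟩, fun u _ => h3 u⟩, fun v => rfl⟩

omit h hbar in
theorem exists_diag {a : ι} (ha : bar a ≠ a) {c : F} (hc : c ≠ 0) :
    ∃ x : ↥(Cfsg.isometryGroup F Qf), ∀ v d, act x v d =
      (if d = a then c else if d = bar a then c⁻¹ else 1) * v d := by
  set f : ι → F := fun d => if d = a then c else if d = bar a then c⁻¹ else 1 with hf
  have hf0 : ∀ d, f d ≠ 0 := fun d => by simp only [hf]; split_ifs <;> simp [hc]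
  obtain ⟨g, hg⟩ := exists_iso (Qf := Qf) (Matrix.diagonal f) (Matrix.diagonal fun d => (f d)⁻¹)
    (fun v => funext fun d => by rw [Matrix.mulVec_diagonal, Matrix.mulVec_diagonal, mul_inv_cancel_left₀ (hf0 d)])
    (fun v => funext fun d => by rw [Matrix.mulVec_diagonal, Matrix.mulVec_diagonal, inv_mul_cancel_left₀ (hf0 d)])
    (fun v => by
      rw [hQf, hQf, quad_split hfr ha, quad_split hfr ha v]
      congr 1
      · congr 1
        funext d
        simp only [Pi.sub_apply, Pi.smul_apply, Matrix.mulVec_diagonal, smul_eq_mul, hf]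
        rcases eq_or_ne d a with rfl | h1
        · simp [Ne.symm ha]
        rcases eq_or_ne d (bar a) with rfl | h2
        · simp [ha]
        simp [h1, h2]
      · simp only [Matrix.mulVec_diagonal, hf, if_true, ite_true, if_neg ha]
        field_simp)
  exact ⟨g, fun v d => by rw [hg, Matrix.mulVec_diagonal]⟩

omit h hbar in
theorem exists_flip {a : ι} (ha : bar a ≠ a) :
    ∃ x : ↥(Cfsg.isometryGroup F Qf), ∀ v d, act x v d = v (Equiv.swap a (bar a) d) := by
  let M : Matrix ι ι F := (1 : Matrix ι ι F).submatrix (Equiv.swap a (bar a)) id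
  have hM : ∀ (v : ι → F) d, (M *ᵥ v) d = v (Equiv.swap a (bar a) d) := fun v d => by
    simp [M, Matrix.mulVec, dotProduct, Matrix.one_apply]
  have hMM : ∀ v, M *ᵥ (M *ᵥ v) = v := fun v => funext fun d => by rw [hM, hM, Equiv.swap_apply_self]
  obtain ⟨g, hg⟩ := exists_iso (Qf := Qf) M M hMM hMM (fun v => by
    rw [hQf, hQf, quad_split hfr ha, quad_split hfr ha v]
    congr 1
    · congr 1
      funext d
      simp only [Pi.sub_apply, Pi.smul_apply, hM, smul_eq_mul]
      rcases eq_or_ne d a with rfl | h1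
      · simp [Ne.symm ha]
      rcases eq_or_ne d (bar a) with rfl | h2
      · simp [ha]
      simp [Equiv.swap_apply_of_ne_of_ne h1 h2, h1, h2]
    · rw [hM, hM, Equiv.swap_apply_left, Equiv.swap_apply_right, mul_comm])
  exact ⟨g, fun v d => by rw [hg, hM]⟩

omit h hbar in
theorem exists_refl {o : ι} (ho : bar o = o) :
    ∃ x : ↥(Cfsg.isometryGroup F Qf), ∀ v d, act x v d = (if d = o then -1 else 1) * v d := by
  set f : ι → F := fun d => if d = o then -1 else 1 with hf
  have hff : ∀ v : ι → F, Matrix.diagonal f *ᵥ (Matrix.diagonal f *ᵥ v) = v := fun v => funext fun d => by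
    rw [Matrix.mulVec_diagonal, Matrix.mulVec_diagonal]
    simp only [hf]
    split_ifs <;> simp
  obtain ⟨g, hg⟩ := exists_iso (Qf := Qf) _ _ hff hff (fun v => by
    have e' : Matrix.diagonal f *ᵥ v = v + (-2 * v o) • Pi.single o 1 := funext fun d => by
      rw [Matrix.mulVec_diagonal]
      simp only [hf]
      rcases eq_or_ne d o with rfl | h1
      · simp; ring
      · simp [h1]
    rw [hQf, hQf, e', QuadraticMap.map_add (⇑Q), QuadraticMap.map_smul, polar_comm, polar_smul_left,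
      hpol0 o ho, hfr.unit o ho]
    simp only [smul_eq_mul]
    ring)
  exact ⟨g, fun v d => by rw [hg, Matrix.mulVec_diagonal]⟩

omit h hQf hpol0 hbar in
theorem swap_bar (a c : ι) : bar (Equiv.swap a (bar a) c) = Equiv.swap a (bar a) (bar c) := by
  rcases eq_or_ne c a with rfl | h1
  · rw [Equiv.swap_apply_left, hfr.bar_bar, Equiv.swap_apply_right]
  rcases eq_or_ne c (bar a) with rfl | h2
  · rw [Equiv.swap_apply_right, hfr.bar_bar, Equiv.swap_apply_left]
  rw [Equiv.swap_apply_of_ne_of_ne h1 h2, Equiv.swap_apply_of_ne_of_ne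
    (fun e' => h2 (by rw [← e', hfr.bar_bar])) (fun e' => h1 (by rw [← hfr.bar_bar c, e', hfr.bar_bar]))]

theorem conj_mem {x : ↥(Cfsg.isometryGroup F Qf)} (hx : IsDiagEl x ∨ IsFlipEl bar x)
    {g : ↥(Cfsg.isometryGroup F Qf)} (hg : g ∈ (natHom h e hQf hfr hpol0 hbar).range) :
    x * g * x⁻¹ ∈ (natHom h e hQf hfr hpol0 hbar).range := by
  set E := (natHom h e hQf hfr hpol0 hbar).range with hE
  have hgen : ∀ r < T.n, ∀ t : F, x * natHom h e hQf hfr hpol0 hbar (T.sX F r t) * x⁻¹ ∈ E := by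
    intro r hr t
    set g0 := natHom h e hQf hfr hpol0 hbar (T.sX F r t)
    suffices ∃ g' ∈ E, ∀ v, act x (act g0 v) = act g' (act x v) by
      obtain ⟨g', hg', he⟩ := this
      rw [show x * g0 = g' * x from act_inj fun v => by rw [act_mul, act_mul, he], mul_inv_cancel_right]
      exact hg'
    obtain ⟨σ, -, ⟨a, b, ha, hb, hab, hab', he⟩ | ⟨o, a, ho, ha, he⟩⟩ := root_cases h e hbar hr (F := F)
    · rcases hx with ⟨f, hf⟩ | ⟨k, hk, hf⟩
      · obtain ⟨g', hg', he'⟩ := natHom_el h e hQf hfr hpol0 hbar ha hb hab hab' (σ * t * f a * f (bar b))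
        refine ⟨g', hg', fun v => ?_⟩
        rw [natHom_sX h e hQf hfr hpol0 hbar hr, he, he']
        obtain ⟨hrel, -⟩ := diag_rel hQf hfr hpol0 hf
        have h1 := hrel a ha
        have h2 := hrel b hb
        funext c
        simp only [elF, hf, Pi.add_apply, Pi.sub_apply, Pi.smul_apply, smul_eq_mul]
        rcases eq_or_ne c a with rfl | hca
        · simp [hab']
          linear_combination (-(σ * t * f c * v b)) * h2
        rcases eq_or_ne c (bar b) with rfl | hcb
        · simp [Ne.symm hab']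
          linear_combination (σ * t * f (bar b) * v (bar a)) * h1
        simp [hca, hcb]
      · set π := Equiv.swap k (bar k) with hπ
        have hπf : ∀ c, bar c ≠ c → bar (π c) ≠ π c := fun c hc e' => hc (by
          rw [hπ, swap_bar hfr] at e'; exact π.injective e')
        obtain ⟨g', hg', he'⟩ := natHom_el h e hQf hfr hpol0 hbar (hπf a ha) (hπf b hb)
          (fun e' => hab (π.injective e'))
          (fun e' => hab' (π.injective (by rw [hπ, swap_bar hfr] at e'; exact e'))) (σ * t)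
        refine ⟨g', hg', fun v => ?_⟩
        rw [natHom_sX h e hQf hfr hpol0 hbar hr, he, he']
        funext c
        have hs : ∀ i j, (π i = j) ↔ (i = π j) := fun i j => by
          rw [hπ]; exact ⟨fun h => by rw [← h, Equiv.swap_apply_self], fun h => by rw [h, Equiv.swap_apply_self]⟩
        simp only [elF, hf, Pi.add_apply, Pi.sub_apply, Pi.smul_apply, smul_eq_mul, hπ, swap_bar hfr,
          Equiv.swap_apply_self, Pi.single_apply]
        simp only [← hπ, hs]
    · rcases hx with ⟨f, hf⟩ | ⟨k, hk, hf⟩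
      · obtain ⟨g', hg', he'⟩ := natHom_sh h e hQf hfr hpol0 hbar ho ha (σ * t * f a * f o)
        refine ⟨g', hg', fun v => ?_⟩
        rw [natHom_sX h e hQf hfr hpol0 hbar hr, he, he']
        obtain ⟨hrel, hrel0⟩ := diag_rel hQf hfr hpol0 hf
        have h1 := hrel a ha
        have h2 := hrel0 o ho
        have hoa : o ≠ a := fun e' => ha (e' ▸ ho)
        funext c
        simp only [shF, hf, Pi.add_apply, Pi.smul_apply, smul_eq_mul]
        rcases eq_or_ne c a with rfl | hca
        · simp [Ne.symm hoa]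
          linear_combination (2 * σ * t * f c * v o + (σ * t) ^ 2 * f c ^ 2 * f (bar c) * v (bar c)) * h2 +
            ((σ * t) ^ 2 * f c * v (bar c)) * h1
        rcases eq_or_ne c o with rfl | hco
        · simp [hoa]
          linear_combination (-(σ * t * f c * v (bar a))) * h1
        simp [hca, hco]
      · set π := Equiv.swap k (bar k) with hπ
        have hπo : bar (π o) = π o := by rw [hπ, swap_bar hfr, ho]
        obtain ⟨g', hg', he'⟩ := natHom_sh h e hQf hfr hpol0 hbar hπo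
          (fun e' => ha (π.injective (by rw [hπ, swap_bar hfr] at e'; exact e'))) (σ * t) (a := π a)
        refine ⟨g', hg', fun v => ?_⟩
        rw [natHom_sX h e hQf hfr hpol0 hbar hr, he, he']
        funext c
        have hs : ∀ i j, (π i = j) ↔ (i = π j) := fun i j => by
          rw [hπ]; exact ⟨fun h => by rw [← h, Equiv.swap_apply_self], fun h => by rw [h, Equiv.swap_apply_self]⟩
        simp only [shF, hf, Pi.add_apply, Pi.smul_apply, smul_eq_mul, hπ, swap_bar hfr, Equiv.swap_apply_self,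
          Pi.single_apply]
        simp only [← hπ, hs]
  obtain ⟨y, rfl⟩ := hg
  have hle : (⊤ : Subgroup (T.datum.SteinbergGroup F)) ≤
      E.comap ((MulAut.conj x).toMonoidHom.comp (natHom h e hQf hfr hpol0 hbar)) := by
    rw [← PresentedGroup.closure_range_of (T.datum.steinbergRels F), Subgroup.closure_le]
    rintro _ ⟨⟨r, t⟩, rfl⟩
    have := hgen r.val r.2 t
    rw [Tbl.sX, Cfsg.Lie.ChevalleyDatum.stGen, Cfsg.Lie.ChevalleyDatum.stX, dif_pos r.2] at this
    exact this
  exact hle (Subgroup.mem_top y)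

/-- A diagonal element with square entries lies in the image. -/
theorem sq_mem {a : ι} (ha : bar a ≠ a) {x : ↥(Cfsg.isometryGroup F Qf)} {c : F} (hc : c ≠ 0)
    (hx : ∀ v d, act x v d = (if d = a then c * c else if d = bar a then (c * c)⁻¹ else 1) * v d) :
    x ∈ (natHom h e hQf hfr hpol0 hbar).range := by
  obtain ⟨a, rfl⟩ := e.surjective a
  obtain ⟨ha', hba⟩ := bar_e e hbar a
  have hck := allLt_iff.mp h.sq a.val a.2
  rw [ne_eq, bar_fix_iff e hbar] at ha
  simp only [Bool.or_eq_true, Nat.beq_eq, ha, false_or, List.any_eq_true, List.all_eq_true, List.mem_range,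
    decide_eq_true_eq] at hck
  obtain ⟨r, hr, r', hr', hw⟩ := hck
  refine ⟨T.sH F r c * T.sH F r' c, act_inj fun v => funext fun d => ?_⟩
  rw [map_mul, act_mul, hx]
  show ((repHom e h.rep h.st.valid (T.sH F r c) : Matrix ι ι F) *ᵥ
    ((repHom e h.rep h.st.valid (T.sH F r' c) : Matrix ι ι F) *ᵥ v)) d = _
  rw [repHom_sH e h.rep h.st.valid hr hc, repHom_sH e h.rep h.st.valid hr' hc, Matrix.mulVec_diagonal,
    Matrix.mulVec_diagonal, ← mul_assoc, ← zpow_add₀ hc, hw _ (e.symm d).2, hba]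
  obtain ⟨d, rfl⟩ := e.surjective d
  simp only [Equiv.symm_apply_apply, e.injective.eq_iff, Fin.ext_iff]
  rcases eq_or_ne d.val a.val with h1 | h1
  · simp [h1, zpow_two, pow_two]
  have h1b : Nat.beq d.val a.val = false := Bool.eq_false_iff.mpr (by simpa using h1)
  rcases eq_or_ne d.val (barN a.val) with h2 | h2
  · simp [h2, ha, zpow_two, pow_two, mul_inv, show Nat.beq (barN a.val) a.val = false from h2 ▸ h1b]
  have h2b : Nat.beq d.val (barN a.val) = false := Bool.eq_false_iff.mpr (by simpa using h2)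
  simp [h1, h2, h1b, h2b]

omit h hQf hpol0 hbar in
theorem flips_commute {x y : ↥(Cfsg.isometryGroup F Qf)} (hx : IsFlipEl bar x) (hy : IsFlipEl bar y) :
    x * y = y * x := by
  obtain ⟨a, -, hx⟩ := hx
  obtain ⟨b, -, hy⟩ := hy
  refine act_inj fun v => funext fun c => ?_
  simp only [act_mul, hx, hy]
  congr 1
  by_cases hab : b = a ∨ b = bar a
  · have : Equiv.swap b (bar b) = Equiv.swap a (bar a) := by
      rcases hab with rfl | rfl
      · rfl
      · rw [hfr.bar_bar, Equiv.swap_comm]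
    rw [this]
  · push Not at hab
    have hb1 : bar b ≠ a := fun e' => hab.2 (by rw [← e', hfr.bar_bar])
    have hb2 : bar b ≠ bar a := fun e' => hab.1 (by rw [← hfr.bar_bar b, e', hfr.bar_bar])
    rcases eq_or_ne c a with rfl | h1
    · simp [Equiv.swap_apply_def, Ne.symm hab.1, Ne.symm hab.2, Ne.symm hb1, Ne.symm hb2]
    rcases eq_or_ne c (bar a) with rfl | h2
    · simp [Equiv.swap_apply_def, Ne.symm hab.1, Ne.symm hab.2, Ne.symm hb1, Ne.symm hb2]
    rcases eq_or_ne c b with rfl | h3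
    · simp [Equiv.swap_apply_def, hab.1, hab.2, hb1, hb2]
    rcases eq_or_ne c (bar b) with rfl | h4
    · simp [Equiv.swap_apply_def, hab.1, hab.2, hb1, hb2]
    simp [Equiv.swap_apply_def, h1, h2, h3, h4]

theorem flip_diag {x y : ↥(Cfsg.isometryGroup F Qf)} (hx : IsFlipEl bar x) (hy : IsDiagEl y) :
    ∃ g ∈ (natHom h e hQf hfr hpol0 hbar).range, x * y = g * (y * x) := by
  obtain ⟨k, hk, hx⟩ := hx
  obtain ⟨f, hf⟩ := hy
  obtain ⟨hrel, -⟩ := diag_rel hQf hfr hpol0 hf
  have h1 := hrel k hk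
  have hfk : f k ≠ 0 := fun e' => by rw [e', zero_mul] at h1; exact zero_ne_one h1
  have hfb : f (bar k) = (f k)⁻¹ := eq_inv_of_mul_eq_one_right h1
  obtain ⟨d, hd⟩ := exists_diag hQf hfr hpol0 hk (mul_ne_zero (inv_ne_zero hfk) (inv_ne_zero hfk))
  refine ⟨d, sq_mem h e hQf hfr hpol0 hbar hk (inv_ne_zero hfk) hd, act_inj fun v => funext fun c => ?_⟩
  simp only [act_mul, hd, hf, hx]
  rcases eq_or_ne c k with rfl | h2
  · rw [Equiv.swap_apply_left, if_pos rfl, hfb]
    field_simp
  rcases eq_or_ne c (bar k) with rfl | h3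
  · rw [Equiv.swap_apply_right, if_neg h2, if_pos rfl, hfb]
    field_simp
  rw [Equiv.swap_apply_of_ne_of_ne h2 h3, if_neg h2, if_neg h3, one_mul]

theorem commutator_le_range :
    commutator ↥(Cfsg.isometryGroup F Qf) ≤ (natHom h e hQf hfr hpol0 hbar).range := by
  classical
  set E := (natHom h e hQf hfr hpol0 hbar).range with hE
  set A : Set ↥(Cfsg.isometryGroup F Qf) := {x | IsDiagEl x ∨ IsFlipEl bar x} with hA
  set S := E ⊔ Subgroup.closure A
  have hAS : ∀ x ∈ A, x ∈ S := fun x hx => Subgroup.mem_sup_right (Subgroup.subset_closure hx)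
  have htop : S = ⊤ := by
    refine eq_top hfr ⟨fun a b ha hb hab hab' t => ?_, fun o a ho ha t => ?_, fun a ha => ?_, fun a ha c hc => ?_,
      fun o ho => ?_⟩ hQf
    · obtain ⟨g, hg, he⟩ := natHom_el h e hQf hfr hpol0 hbar ha hb hab hab' t
      exact ⟨g, Subgroup.mem_sup_left hg, he⟩
    · obtain ⟨g, hg, he⟩ := natHom_sh h e hQf hfr hpol0 hbar ho ha t
      exact ⟨g, Subgroup.mem_sup_left hg, he⟩
    · obtain ⟨x, hx⟩ := exists_flip hQf hfr hpol0 ha
      refine ⟨x, hAS x (Or.inr ⟨a, ha, hx⟩), fun d h1 h2 _ => funext fun c => ?_, ?_⟩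
      · rw [hx, Pi.single_apply, Pi.single_apply]
        refine if_congr ⟨fun e' => ?_, fun e' => ?_⟩ rfl rfl
        · have := congrArg (Equiv.swap a (bar a)) e'
          rwa [Equiv.swap_apply_self, Equiv.swap_apply_of_ne_of_ne h1 h2] at this
        · rw [e', Equiv.swap_apply_of_ne_of_ne h1 h2]
      · rw [hx, Equiv.swap_apply_left, Pi.single_eq_same]; exact one_ne_zero
    · obtain ⟨x, hx⟩ := exists_diag hQf hfr hpol0 ha hc
      refine ⟨x, hAS x (Or.inl ⟨_, hx⟩), fun d h1 h2 => funext fun i => ?_, funext fun i => ?_⟩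
      · rw [hx]
        rcases eq_or_ne i d with rfl | hi
        · simp [h1, h2]
        · simp [hi]
      · rw [hx]
        rcases eq_or_ne i a with rfl | hi
        · simp
        · simp [hi]
    · obtain ⟨x, hx⟩ := exists_refl hQf hfr hpol0 ho
      refine ⟨x, hAS x (Or.inl ⟨_, hx⟩), fun d h1 => funext fun i => ?_, funext fun i => ?_⟩
      · rw [hx]
        rcases eq_or_ne i d with rfl | hi
        · simp [h1]
        · simp [hi]
      · rw [hx]
        rcases eq_or_ne i o with rfl | hi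
        · simp
        · simp [hi]
  have hinv : ∀ x ∈ A, x⁻¹ ∈ A := by
    rintro x (⟨f, hf⟩ | ⟨a, ha, hf⟩)
    · obtain ⟨hrel, hrel0⟩ := diag_rel hQf hfr hpol0 hf
      have hf0 : ∀ c, f c ≠ 0 := fun c e' => by
        by_cases hc : bar c = c
        · simpa [e'] using hrel0 c hc
        · simpa [e'] using hrel c hc
      refine Or.inl ⟨fun c => (f c)⁻¹, fun v c => ?_⟩
      have h1 := hf (act x⁻¹ v) c
      rw [← act_mul, mul_inv_cancel, act_one] at h1
      rw [h1, inv_mul_cancel_left₀ (hf0 c)]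
    · refine Or.inr ⟨a, ha, fun v c => ?_⟩
      have h1 := hf (act x⁻¹ v) (Equiv.swap a (bar a) c)
      rw [← act_mul, mul_inv_cancel, act_one, Equiv.swap_apply_self] at h1
      rw [h1]
  have hn : E.Normal := by
    rw [← Subgroup.normalizer_eq_top_iff, eq_top_iff, ← htop]
    refine sup_le Subgroup.le_normalizer ((Subgroup.closure_le _).mpr fun x hx => ?_)
    rw [SetLike.mem_coe, Subgroup.mem_normalizer_iff]
    refine fun g => ⟨fun hg => conj_mem h e hQf hfr hpol0 hbar hx hg, fun hg => ?_⟩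
    have := conj_mem h e hQf hfr hpol0 hbar (hinv x hx) hg
    rwa [inv_inv, show x⁻¹ * (x * g * x⁻¹) * x = g by group] at this
  let π := QuotientGroup.mk' E
  have hgen : ∀ x ∈ A, ∀ y ∈ A, π x * π y = π y * π x := by
    have hfd : ∀ x y, IsFlipEl bar x → IsDiagEl y → π x * π y = π y * π x := by
      intro x y hx hy
      obtain ⟨g, hg, e'⟩ := flip_diag h e hQf hfr hpol0 hbar hx hy
      have hg1 : π g = 1 := (QuotientGroup.eq_one_iff g).mpr hg
      rw [← map_mul, e', map_mul, hg1, one_mul, map_mul]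
    rintro x (hx | hx) y (hy | hy)
    · obtain ⟨f, hf⟩ := hx
      obtain ⟨f', hf'⟩ := hy
      rw [← map_mul, ← map_mul, act_inj (g := x * y) (g' := y * x) fun v => funext fun c => by
        simp only [act_mul, hf, hf']; ring]
    · exact (hfd y x hy hx).symm
    · exact hfd x y hx hy
    · rw [← map_mul, ← map_mul, flips_commute hfr hx hy]
  have hcl : ∀ x : ↥(Cfsg.isometryGroup F Qf), π x ∈ Subgroup.closure (π '' A) := by
    intro x
    rw [← MonoidHom.map_closure]
    obtain ⟨g, hg, a, ha, rfl⟩ : ∃ g ∈ E, ∃ a ∈ Subgroup.closure A, g * a = x := by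
      have hx : x ∈ E ⊔ Subgroup.closure A := by
        show x ∈ S
        rw [htop]; exact Subgroup.mem_top x
      exact Subgroup.mem_sup_of_normal_left.mp hx
    rw [map_mul, show π g = 1 from (QuotientGroup.eq_one_iff g).mpr hg, one_mul]
    exact ⟨a, ha, rfl⟩
  rw [commutator_def, Subgroup.commutator_le]
  intro x _ y _
  rw [← QuotientGroup.ker_mk' E, MonoidHom.mem_ker, map_commutatorElement, commutatorElement_eq_one_iff_mul_comm]
  refine Subgroup.closure_induction₂ (fun a b ha hb => ?_) (fun _ _ => Commute.one_left _) (fun _ _ => Commute.one_right _)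
    (fun _ _ _ _ _ _ h1 h2 => Commute.mul_left h1 h2) (fun _ _ _ _ _ _ h1 h2 => Commute.mul_right h1 h2)
    (fun _ _ _ _ h1 => Commute.inv_left h1) (fun _ _ _ _ h1 => Commute.inv_right h1) (hcl x) (hcl y)
  obtain ⟨a, ha', rfl⟩ := ha
  obtain ⟨b, hb', rfl⟩ := hb
  exact hgen a ha' b hb'

/-- The isomorphism, with its values at the root elements. -/
theorem exists_iso_pomega_spec (hperf : (natHom h e hQf hfr hpol0 hbar).range ≤ commutator ↥(Cfsg.isometryGroup F Qf))
    (hsimple : IsSimpleGroup ↥(T.datum.group F))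
    (hnc : ∃ x ∈ (natHom h e hQf hfr hpol0 hbar).range, ∃ y ∈ (natHom h e hQf hfr hpol0 hbar).range,
      x * y ≠ y * x) :
    ∃ E : ↥(T.datum.group F) ≃* Cfsg.POmega F Qf, ∀ r < T.n, ∀ (t : F) (g : ↥(T.datum.group F)),
      (g : GL T.I F) = T.xU F r t → ∃ s : ↥(Cfsg.Omega F Qf),
        ((s.1 : GL ι F) : Matrix ι ι F) = xM e r t ∧ E g = QuotientGroup.mk s := by
  set φ := natHom h e hQf hfr hpol0 hbar with hφ
  have hEq : φ.range = commutator ↥(Cfsg.isometryGroup F Qf) :=
    le_antisymm hperf (commutator_le_range h e hQf hfr hpol0 hbar)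
  let φ' : T.datum.SteinbergGroup F →* ↥(Cfsg.Omega F Qf) :=
    φ.codRestrict _ fun x => hperf ⟨x, rfl⟩
  have hsurj : Function.Surjective φ' := fun y => by
    obtain ⟨x, hx⟩ := hEq.ge y.2
    exact ⟨x, Subtype.ext hx⟩
  let ψ : T.datum.SteinbergGroup F →* Cfsg.POmega F Qf := (QuotientGroup.mk' _).comp φ'
  have hψ : Function.Surjective ψ := (QuotientGroup.mk'_surjective _).comp hsurj
  have hZ : Subgroup.center _ ≤ ψ.ker := by
    intro z hz
    rw [MonoidHom.mem_ker]
    refine (QuotientGroup.eq_one_iff _).mpr (Subgroup.mem_center_iff.mpr fun g => ?_)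
    obtain ⟨y, rfl⟩ := hsurj g
    rw [← map_mul, ← map_mul, Subgroup.mem_center_iff.mp hz y]
  set π := Tbl.stProj (F := F) h.st
  have hπs : Function.Surjective π := Tbl.stProj_surjective h.st
  have hπk : π.ker = Subgroup.center _ := Tbl.stProj_ker h.st
  have hker : ψ.ker = π.ker := by
    refine le_antisymm ?_ (hπk ▸ hZ)
    have hn : (ψ.ker.map π).Normal := Subgroup.Normal.map inferInstance π hπs
    rcases hn.eq_bot_or_eq_top with h1 | h1
    · exact (Subgroup.map_eq_bot_iff _).mp h1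
    · exfalso
      have htop : ψ.ker = ⊤ := by
        rw [eq_top_iff]
        intro x _
        obtain ⟨k, hk, hkx⟩ := h1.ge (Subgroup.mem_top (π x))
        have : k⁻¹ * x ∈ ψ.ker := hZ (hπk ▸ MonoidHom.mem_ker.mpr (by rw [map_mul, map_inv, hkx, inv_mul_cancel]))
        rw [show x = k * (k⁻¹ * x) by group]
        exact mul_mem hk this
      obtain ⟨_, ⟨x, rfl⟩, _, ⟨y, rfl⟩, hxy⟩ := hnc
      have hx : φ' x ∈ Subgroup.center ↥(Cfsg.Omega F Qf) :=
        (QuotientGroup.eq_one_iff _).mp (MonoidHom.mem_ker.mp (htop ▸ Subgroup.mem_top x : x ∈ ψ.ker))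
      exact hxy (congrArg Subtype.val (Subgroup.mem_center_iff.mp hx (φ' y))).symm
  let E := ((QuotientGroup.quotientKerEquivOfSurjective π hπs).symm.trans
    (QuotientGroup.quotientMulEquivOfEq hker.symm)).trans
    (QuotientGroup.quotientKerEquivOfSurjective ψ hψ)
  have hE : ∀ y, E (π y) = ψ y := fun y => by
    have h1 : (QuotientGroup.quotientKerEquivOfSurjective π hπs).symm (π y) = QuotientGroup.mk y :=
      (MulEquiv.symm_apply_eq _).2 rfl
    show (QuotientGroup.quotientKerEquivOfSurjective ψ hψ) ((QuotientGroup.quotientMulEquivOfEq hker.symm)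
      ((QuotientGroup.quotientKerEquivOfSurjective π hπs).symm (π y))) = ψ y
    rw [h1]
    rfl
  refine ⟨E, fun r hr t g hg => ⟨φ' (T.sX F r t), ?_, ?_⟩⟩
  · show (repHom e h.rep h.st.valid (T.sX F r t) : Matrix ι ι F) = _
    rw [repHom_sX e h.rep h.st.valid hr, xN_val e h.rep hr]
  · have e1 : g = π (T.sX F r t) := Subtype.ext (hg.trans (Tbl.hom_sX h.st hr t).symm)
    rw [e1, hE]
    rfl

/-- The isomorphism. -/
theorem exists_iso_pomega (hperf : (natHom h e hQf hfr hpol0 hbar).range ≤ commutator ↥(Cfsg.isometryGroup F Qf))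
    (hsimple : IsSimpleGroup ↥(T.datum.group F))
    (hnc : ∃ x ∈ (natHom h e hQf hfr hpol0 hbar).range, ∃ y ∈ (natHom h e hQf hfr hpol0 hbar).range,
      x * y ≠ y * x) :
    Nonempty (↥(T.datum.group F) ≃* Cfsg.POmega F Qf) :=
  ⟨(exists_iso_pomega_spec h e hQf hfr hpol0 hbar hperf hsimple hnc).choose⟩

end CfsgLib.Chevalley.Natural
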