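import Mathlib

/-!
Matrices with polynomial entries in two variables, as lists of monomials; equality by a finite check.
-/

set_option autoImplicit false

namespace CfsgLib.Chevalley.Natural

open Matrix

/-- A monomial `c * t ^ i * u ^ j` at position `(row, col)`, as `(i, j, row, col, c)`. -/
abbrev PTm : Type := ℕ × ℕ × ℕ × ℕ × ℤ

/-- The identity. -/
def pid (n : ℕ) : List PTm := (List.range n).map fun a => (0, 0, a, a, 1)

/-- The product. -/
def pmul (n : ℕ) (P Q : List PTm) : List PTm :=
  P.flatMap fun p => Q.filterMap fun q =>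
    bif Nat.beq p.2.2.2.1 q.2.2.1 && Nat.blt q.2.2.1 n then
      some (p.1 + q.1, p.2.1 + q.2.1, p.2.2.1, q.2.2.2.1, p.2.2.2.2 * q.2.2.2.2)
    else none

/-- The product of a list. -/
def pprod (n : ℕ) (l : List (List PTm)) : List PTm := l.foldr (pmul n) (pid n)

/-- Negation. -/
def pneg (P : List PTm) : List PTm := P.map fun p => (p.1, p.2.1, p.2.2.1, p.2.2.2.1, -p.2.2.2.2)

/-- The key of a monomial: its exponents and position. -/
def keyFull (p : PTm) : ℕ × ℕ × ℕ × ℕ := (p.1, p.2.1, p.2.2.1, p.2.2.2.1)

/-- The key of a monomial when `u = t⁻¹`. -/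
def keyLaurent (p : PTm) : ℤ × ℕ × ℕ := ((p.1 : ℤ) - p.2.1, p.2.2.1, p.2.2.2.1)

/-- The check that the coefficients of every key sum to zero. -/
def keyZero {κ : Type} [DecidableEq κ] (key : PTm → κ) (P : List PTm) : Bool :=
  P.all fun p => decide (((P.filter fun q => decide (key q = key p)).map fun q => q.2.2.2.2).sum = 0)

/-- Equality as polynomials. -/
def pEq (P Q : List PTm) : Bool := keyZero keyFull (P ++ pneg Q)

/-- Equality as Laurent polynomials. -/
def pEqL (P Q : List PTm) : Bool := keyZero keyLaurent (P ++ pneg Q)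

section Eval

variable {ι : Type} [Fintype ι] [DecidableEq ι] {n : ℕ} (e : Fin n ≃ ι) {R : Type*} [CommRing R]

/-- The unit matrix at a position. -/
def unitM (R : Type*) [CommRing R] (a b : ℕ) : Matrix ι ι R :=
  if h : a < n ∧ b < n then Matrix.single (e ⟨a, h.1⟩) (e ⟨b, h.2⟩) 1 else 0

/-- The value of a monomial. -/
def evT (t u : R) (p : PTm) : Matrix ι ι R :=
  ((p.2.2.2.2 : R) * t ^ p.1 * u ^ p.2.1) • unitM e R p.2.2.1 p.2.2.2.1

/-- The value of a list. -/
def ev (t u : R) (P : List PTm) : Matrix ι ι R := (P.map (evT e t u)).sum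

theorem ev_nil (t u : R) : ev e t u [] = 0 := rfl

theorem ev_cons (t u : R) (p : PTm) (P : List PTm) : ev e t u (p :: P) = evT e t u p + ev e t u P := by
  simp [ev]

theorem ev_append (t u : R) (P Q : List PTm) : ev e t u (P ++ Q) = ev e t u P + ev e t u Q := by
  simp [ev]

theorem ev_pneg (t u : R) (P : List PTm) : ev e t u (pneg P) = -ev e t u P := by
  induction P with
  | nil => simp [ev, pneg]
  | cons p P ih =>
    have : pneg (p :: P) = (p.1, p.2.1, p.2.2.1, p.2.2.2.1, -p.2.2.2.2) :: pneg P := rfl
    rw [this, ev_cons, ev_cons, ih, neg_add]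
    congr 1
    simp [evT]

theorem sum_range_map {M : Type*} [AddCommMonoid M] (f : ℕ → M) (k : ℕ) :
    ((List.range k).map f).sum = ∑ a ∈ Finset.range k, f a := by
  induction k with
  | zero => simp
  | succ k ih => rw [List.range_succ, List.map_append, List.sum_append, ih, Finset.sum_range_succ]; simp

theorem ev_pid (t u : R) : ev e t u (pid n) = 1 := by
  rw [ev, pid, List.map_map, sum_range_map, Finset.sum_range fun a => (evT e t u ∘ fun a => (0, 0, a, a, 1)) a]
  ext i j
  rw [Matrix.sum_apply]
  obtain ⟨a, rfl⟩ := e.surjective i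
  obtain ⟨b, rfl⟩ := e.surjective j
  rw [Finset.sum_eq_single a]
  · simp [evT, unitM, Matrix.one_apply, Matrix.single_apply]
  · intro c _ hc
    simp [evT, unitM, Matrix.single_apply, hc]
  · simp

theorem unitM_mul {a b c d : ℕ} : unitM e R a b * unitM e R c d =
    if b = c ∧ c < n then unitM e R a d else 0 := by
  unfold unitM
  by_cases h1 : a < n ∧ b < n
  swap
  · rw [dif_neg h1, zero_mul]
    split_ifs with h h'
    · exact absurd ⟨h'.1, h.1 ▸ h.2⟩ h1
    all_goals rfl
  by_cases h2 : c < n ∧ d < n
  swap
  · rw [dif_neg h2, mul_zero]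
    split_ifs with h h'
    · exact absurd ⟨h.2, h'.2⟩ h2
    all_goals rfl
  rw [dif_pos h1, dif_pos h2]
  by_cases hbc : b = c
  · subst hbc
    rw [if_pos ⟨rfl, h1.2⟩, dif_pos ⟨h1.1, h2.2⟩, Matrix.single_mul_single_same, one_mul]
  · rw [if_neg (fun h => hbc h.1), Matrix.single_mul_single_of_ne]
    exact fun h => hbc (Fin.val_eq_of_eq (e.injective h))

theorem ev_pmul (t u : R) (P Q : List PTm) : ev e t u (pmul n P Q) = ev e t u P * ev e t u Q := by
  induction P with
  | nil => simp [ev, pmul]
  | cons p P ih =>
    have : pmul n (p :: P) Q = (Q.filterMap fun q =>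
      bif Nat.beq p.2.2.2.1 q.2.2.1 && Nat.blt q.2.2.1 n then
        some (p.1 + q.1, p.2.1 + q.2.1, p.2.2.1, q.2.2.2.1, p.2.2.2.2 * q.2.2.2.2)
      else none) ++ pmul n P Q := rfl
    rw [this, ev_append, ih, ev_cons, add_mul]
    congr 1
    clear this ih
    induction Q with
    | nil => simp [ev]
    | cons q Q ih =>
      rw [List.filterMap_cons, ev_cons, mul_add, ← ih]
      have key : evT e t u p * evT e t u q =
          if p.2.2.2.1 = q.2.2.1 ∧ q.2.2.1 < n then
            evT e t u (p.1 + q.1, p.2.1 + q.2.1, p.2.2.1, q.2.2.2.1, p.2.2.2.2 * q.2.2.2.2) else 0 := by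
        simp only [evT, smul_mul_smul_comm, unitM_mul]
        split_ifs
        · congr 1
          push_cast
          ring
        · rw [smul_zero]
      rw [key]
      by_cases h : p.2.2.2.1 = q.2.2.1 ∧ q.2.2.1 < n
      · have hb : (Nat.beq p.2.2.2.1 q.2.2.1 && Nat.blt q.2.2.1 n) = true := by
          simp [h.1, h.2]
        rw [hb, if_pos h]
        simp only [cond_true]
        rw [ev_cons]
      · have hb : (Nat.beq p.2.2.2.1 q.2.2.1 && Nat.blt q.2.2.1 n) = false := by
          rcases not_and_or.mp h with h' | h'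
          · simp [show Nat.beq p.2.2.2.1 q.2.2.1 = false from Bool.eq_false_iff.mpr (by simpa using h')]
          · simp [show Nat.blt q.2.2.1 n = false from Bool.eq_false_iff.mpr (by simpa using h')]
        rw [hb, if_neg h]
        simp

theorem ev_pprod (t u : R) (l : List (List PTm)) : ev e t u (pprod n l) = (l.map (ev e t u)).prod := by
  induction l with
  | nil => exact ev_pid e t u
  | cons a l ih =>
    rw [show pprod n (a :: l) = pmul n a (pprod n l) from rfl, ev_pmul, ih, List.map_cons, List.prod_cons]

omit [Fintype ι] [DecidableEq ι] in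
theorem sum_map_split {α M : Type*} [AddCommMonoid M] (f : α → M) (q : α → Bool) (l : List α) :
    (l.map f).sum = ((l.filter q).map f).sum + ((l.filter fun a => !q a).map f).sum := by
  induction l with
  | nil => simp
  | cons a l ih =>
    cases h : q a <;> simp [List.filter_cons, h, ih] <;> abel

theorem keyZero_ev {κ : Type} [DecidableEq κ] (key : PTm → κ) (B : κ → Matrix ι ι R) (t u : R)
    (hB : ∀ p, evT e t u p = (p.2.2.2.2 : R) • B (key p)) :
    ∀ (P : List PTm), keyZero key P = true → ev e t u P = 0 := by
  intro P h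
  have h' : ∀ k : κ, ((P.filter fun q => decide (key q = k)).map fun q => q.2.2.2.2).sum = 0 := by
    intro k
    by_cases hk : ∃ p ∈ P, key p = k
    · obtain ⟨p, hp, rfl⟩ := hk
      simpa using List.all_eq_true.mp h p hp
    · rw [List.filter_eq_nil_iff.mpr]
      · simp
      · intro q hq
        simpa using fun e => hk ⟨q, hq, e⟩
  clear h
  induction hl : P.length using Nat.strong_induction_on generalizing P with
  | _ k ih =>
    cases P with
    | nil => rfl
    | cons p P' =>
      set k0 := key p
      rw [ev, sum_map_split (evT e t u) (fun q => decide (key q = k0))]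
      have h1 : (((p :: P').filter fun q => decide (key q = k0)).map (evT e t u)).sum = 0 := by
        have e1 : ∀ L : List PTm, (∀ q ∈ L, key q = k0) →
            (L.map (evT e t u)).sum = (((L.map fun q => q.2.2.2.2).sum : ℤ) : R) • B k0 := by
          intro L
          induction L with
          | nil => simp
          | cons q L ihL =>
            intro hq
            rw [List.map_cons, List.sum_cons, ihL (fun x hx => hq x (List.mem_cons_of_mem _ hx)), hB,
              hq q (List.mem_cons_self ..), List.map_cons, List.sum_cons, Int.cast_add, add_smul]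
        rw [e1 _ (fun q hq => by simpa using (List.mem_filter.mp hq).2), h' k0, Int.cast_zero, zero_smul]
      rw [h1, zero_add]
      refine ih ((p :: P').filter fun q => !decide (key q = k0)).length ?_ _ ?_ rfl
      · rw [← hl, List.filter_cons_of_neg (by simp [k0]), List.length_cons]
        exact Nat.lt_succ_of_le (List.length_filter_le _ _)
      · intro k'
        by_cases hk' : k' = k0
        · rw [List.filter_filter, List.filter_eq_nil_iff.mpr]
          · simp
          · intro q _
            simp [hk']
        · rw [List.filter_filter]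
          convert h' k' using 3
          refine List.filter_congr fun q _ => ?_
          by_cases hq : key q = k' <;> simp [hq, hk']

theorem pEq_ev {P Q : List PTm} (h : pEq P Q = true) (t u : R) : ev e t u P = ev e t u Q := by
  have := keyZero_ev e keyFull (fun k => (t ^ k.1 * u ^ k.2.1) • unitM e R k.2.2.1 k.2.2.2) t u
    (fun p => by rw [smul_smul, ← mul_assoc]; rfl) _ h
  rwa [ev_append, ev_pneg, add_neg_eq_zero] at this

theorem pEqL_ev {K : Type*} [Field K] {P Q : List PTm} (h : pEqL P Q = true) {t : K} (ht : t ≠ 0) :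
    ev e t t⁻¹ P = ev e t t⁻¹ Q := by
  have := keyZero_ev e keyLaurent (fun k => (t ^ k.1) • unitM e K k.2.1 k.2.2) t t⁻¹
    (fun p => by
      rw [smul_smul]
      show ((p.2.2.2.2 : K) * t ^ p.1 * t⁻¹ ^ p.2.1) • unitM e K p.2.2.1 p.2.2.2.1 =
        ((p.2.2.2.2 : K) * t ^ ((p.1 : ℤ) - p.2.1)) • unitM e K p.2.2.1 p.2.2.2.1
      rw [zpow_sub₀ ht, zpow_natCast, zpow_natCast, inv_pow, mul_assoc, div_eq_mul_inv]) _ h
  rwa [ev_append, ev_pneg, add_neg_eq_zero] at this

end Eval

end CfsgLib.Chevalley.Natural
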